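import Cfsg.Agent.H42.Phan.TwoBase

/-!
`SU_3(2)`: the monomial subgroup and the automorphisms.
-/

set_option autoImplicit false
set_option linter.unusedSectionVars false

namespace H42.Phan

open Matrix Cfsg H50 H69.SUW H41.Phan

universe u v

variable {F : Type u} [Field F] [Fintype F] {n : ℕ} (hF : Fintype.card F = 2 ^ 2)
include hF

theorem dg3_injective {g : SU 3 F 2} {c : Fin 3 → F} (h : IsDg g c)
    (hne : ∃ i j, c i ≠ c j) : Function.Injective c := by
  have hp := h.prod hF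
  rw [Fin.prod_univ_three] at hp
  have h0 := h.cube hF 0
  have h1 := h.cube hF 1
  have h2 := h.cube hF 2
  have e01 : c 0 = c 1 → c 2 = c 0 := fun e => by
    rw [← e] at hp; linear_combination c 0 * hp - c 2 * h0
  have e02 : c 0 = c 2 → c 1 = c 0 := fun e => by
    rw [← e] at hp; linear_combination c 0 * hp - c 1 * h0
  have e12 : c 1 = c 2 → c 0 = c 1 := fun e => by
    rw [← e] at hp; linear_combination c 1 * hp - c 0 * h1
  intro i j hij
  by_contra hij'
  obtain ⟨a, b, hab⟩ := hne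
  apply hab
  have hall : c 0 = c 1 ∧ c 0 = c 2 := by
    fin_cases i <;> fin_cases j <;> simp at hij hij' <;>
      first
        | exact ⟨hij, (e01 hij).symm⟩ | exact ⟨hij.symm, (e01 hij.symm).symm⟩
        | exact ⟨(e02 hij).symm, hij⟩ | exact ⟨(e02 hij.symm).symm, hij.symm⟩
        | exact ⟨e12 hij, (e12 hij).trans hij⟩ | exact ⟨e12 hij.symm, (e12 hij.symm).trans hij.symm⟩
  have hall' : ∀ a, c a = c 0 := fun a => by
    fin_cases a
    · rfl
    · exact hall.1.symm
    · exact hall.2.symm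
  rw [hall' a, hall' b]

theorem dg3_one {g : SU 3 F 2} {c : Fin 3 → F} (h : IsDg g c) (hc : Function.Injective c) :
    ∃ i, c i = 1 := by
  classical
  obtain ⟨w, -, -, -, hw⟩ := exists_omega hF
  have hsub : Finset.univ.image c ⊆ ({1, w, w ^ 2} : Finset F) := fun x hx => by
    obtain ⟨i, -, rfl⟩ := Finset.mem_image.1 hx
    have h0 : c i ≠ 0 := fun e => col_ne_zero hF g i (by rw [h.mulVec hF, e, zero_smul])
    simpa using mem_omega hF hw h0
  have he := Finset.eq_of_subset_of_card_le hsub (by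
    rw [Finset.card_image_of_injective _ hc, Finset.card_univ, Fintype.card_fin]
    exact Finset.card_le_three)
  have : (1 : F) ∈ Finset.univ.image c := by rw [he]; simp
  obtain ⟨i, -, hi⟩ := Finset.mem_image.1 this
  exact ⟨i, hi⟩

theorem eq_one_of_sq {x : F} (h : x ^ 2 = 1) : x = 1 := by
  have : (x - 1) ^ 2 = 0 := by linear_combination h + (1 - x) * two_zero hF
  exact sub_eq_zero.1 ((pow_eq_zero_iff two_ne_zero).1 this)

theorem inv_fix {g y : SU n F 2} {c : Fin n → F} (h : IsDg g c) (hy : y * y = 1)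
    (hi : y * g * y = g * g) {i : Fin n} (hci : c i = 1) (hc : ∀ j, j ≠ i → c j ≠ 1) :
    suMat y *ᵥ δ i = δ i := by
  have h1 : suMat (g * y) *ᵥ δ i = suMat y *ᵥ δ i := by
    rw [show g * y = y * (y * g * y) by rw [← mul_assoc, ← mul_assoc, hy, one_mul], hi,
      suMat_mulVec_mul, suMat_mulVec_mul, h.mulVec hF, hci, one_smul, h.mulVec hF, hci, one_smul]
  rw [suMat_mulVec_mul] at h1
  have hs : Supp {i} (suMat y *ᵥ δ i) := fun j hj => by
    have e := congrFun h1 j
    rw [show suMat g = diagonal c from h, mulVec_diagonal] at e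
    have : (c j - 1) * (suMat y *ᵥ δ i) j = 0 := by linear_combination e
    exact (mul_eq_zero.1 this).resolve_left (sub_ne_zero.2 (hc j (by simpa using hj)))
  have e := single_of_supp hF hs
  set x := (suMat y *ᵥ δ i) i
  have h2 : suMat (y * y) *ᵥ δ i = δ i := by rw [hy, suMat_one, one_mulVec]
  rw [suMat_mulVec_mul, e, mulVec_smul, e, smul_smul] at h2
  have h3 := congrFun h2 i
  simp only [Pi.smul_apply, δ, Pi.single_eq_same, smul_eq_mul, mul_one] at h3
  rw [e, eq_one_of_sq hF (x := x) (by rw [pow_two]; exact h3), one_smul]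

omit hF in
/-- Monomial elements. -/
def IsMono (g : SU n F 2) : Prop := ∀ j, ∃ (i : Fin n) (c : F), suMat g *ᵥ δ j = c • δ i

theorem mono_decomp {g : SU n F 2} (hg : IsMono g) :
    ∃ (σ : Equiv.Perm (Fin n)) (e : SU n F 2) (c : Fin n → F), IsDg e c ∧ g = pm hF σ * e := by
  choose f c hf using hg
  have hinj : Function.Injective f := fun j k e => by
    by_contra hjk
    have h0 := suMat_h g (δ j) (δ k)
    rw [hf, hf, e, h_smul_left, h_smul_right hF, h_single_single hF, if_pos rfl, mul_one,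
      h_single_single hF, if_neg hjk] at h0
    rcases mul_eq_zero.1 h0 with h | h
    · exact col_ne_zero hF g j (by rw [hf, h, zero_smul])
    · exact col_ne_zero hF g k (by rw [hf, (pow_eq_zero_iff two_ne_zero).1 h, zero_smul])
  set σ := Equiv.ofBijective f (Finite.injective_iff_bijective.1 hinj)
  refine ⟨σ, (pm hF σ)⁻¹ * g, c, isDg_of_mulVec hF fun j => ?_, by rw [mul_inv_cancel_left]⟩
  rw [suMat_mulVec_mul, hf, mulVec_smul, show f j = σ j from rfl, ← pm_single hF σ j,
    suMat_inv_mulVec]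

theorem exists_pair_cover (k : Fin 3) : ∃ x y : Fin 3, ∀ i, i ≠ k → i = x ∨ i = y := by
  revert k; decide

theorem mono_of_col {g : SU 3 F 2} {j₀ k : Fin 3} {c : F} (h : suMat g *ᵥ δ j₀ = c • δ k) :
    IsMono g := fun j => by
  by_cases hj : j = j₀
  · exact ⟨k, c, hj ▸ h⟩
  have h0 : c ≠ 0 := fun e => col_ne_zero hF g j₀ (by rw [h, e, zero_smul])
  have e := suMat_h g (δ j) (δ j₀)
  rw [h, h_smul_right hF, h_single_right hF, h_single_single hF, if_neg hj] at e
  have e' := (mul_eq_zero.1 e).resolve_left (pow_ne_zero _ h0)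
  obtain ⟨x, y, hxy⟩ := exists_pair_cover hF k
  have hs : Supp {x, y} (suMat g *ᵥ δ j) := fun i hi => by
    by_cases hik : i = k
    · rw [hik]; exact e'
    · exact absurd (hxy i hik) (by simpa using hi)
  rcases unit_pair hF hs (col_unit hF g j) with ⟨e, -⟩ | ⟨e, -⟩
  · exact ⟨_, _, e⟩
  · exact ⟨_, _, e⟩

theorem even_two {N0 N1 N2 : F} (h : N0 ^ 3 + N1 ^ 3 + N2 ^ 3 = 0) :
    (N0 = 0 ∧ N1 = 0 ∧ N2 = 0) ∨ (N0 = 0 ∧ N1 ≠ 0 ∧ N2 ≠ 0) ∨
      (N0 ≠ 0 ∧ N1 = 0 ∧ N2 ≠ 0) ∨ (N0 ≠ 0 ∧ N1 ≠ 0 ∧ N2 = 0) := by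
  by_cases a : N0 = 0
  · by_cases b : N1 = 0
    · by_cases c : N2 = 0
      · exact Or.inl ⟨a, b, c⟩
      · rw [a, b, H42.Phan.cube hF c] at h; simp at h
    · by_cases c : N2 = 0
      · rw [a, c, H42.Phan.cube hF b] at h; simp at h
      · exact Or.inr (Or.inl ⟨a, b, c⟩)
  · by_cases b : N1 = 0
    · by_cases c : N2 = 0
      · rw [b, c, H42.Phan.cube hF a] at h; simp at h
      · exact Or.inr (Or.inr (Or.inl ⟨a, b, c⟩))
    · by_cases c : N2 = 0
      · exact Or.inr (Or.inr (Or.inr ⟨a, b, c⟩))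
      · rw [H42.Phan.cube hF a, H42.Phan.cube hF b, H42.Phan.cube hF c] at h
        exact absurd (show (1 : F) = 0 by linear_combination h - two_zero hF) one_ne_zero

/-- Involutions are monomial. -/
theorem mono_of_invol {t : SU 3 F 2} (ht : t * t = 1) : IsMono t := by
  have hinv : t⁻¹ = t := inv_eq_of_mul_eq_one_right ht
  have hherm : ∀ i j, suMat t i j = suMat t j i ^ 2 := fun i j => by
    have e := suMat_h t (δ j) (suMat t *ᵥ δ i)
    rw [← suMat_mulVec_mul, ht, suMat_one, one_mulVec, h_single_left hF, h_single_right hF,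
      H41.Phan.single_mulVec, H41.Phan.single_mulVec] at e
    exact e
  set N : Matrix (Fin 3) (Fin 3) F := suMat t + 1 with hN
  have hN1 : ∀ i j, N i j = N j i ^ 2 := fun i j => by
    by_cases hij : i = j
    · subst hij
      simp only [hN, Matrix.add_apply, Matrix.one_apply_eq]
      linear_combination hherm i i - (suMat t i i) * two_zero hF
    · simp only [hN, Matrix.add_apply, Matrix.one_apply_ne hij, Matrix.one_apply_ne (Ne.symm hij),
        add_zero]
      exact hherm i j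
  have hNN : N * N = 0 := by
    have e : suMat t * suMat t = 1 := by rw [← suMat_mul, ht, suMat_one]
    rw [hN, add_mul, mul_add, mul_add, e, mul_one, one_mul, mul_one]
    ext i j
    simp only [Matrix.add_apply, Matrix.zero_apply]
    linear_combination ((1 : Matrix (Fin 3) (Fin 3) F) i j + suMat t i j) * two_zero hF
  have hcol : ∀ j k, N 0 j ^ 2 * N 0 k + N 1 j ^ 2 * N 1 k + N 2 j ^ 2 * N 2 k = 0 := fun j k => by
    have e := congrFun (congrFun hNN j) k
    rw [Matrix.mul_apply, Fin.sum_univ_three, hN1 j 0, hN1 j 1, hN1 j 2] at e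
    exact e
  obtain ⟨k, hk⟩ : ∃ k, ∀ i, N i k = 0 := by
    by_contra hno
    push Not at hno
    have hz : ∀ j, (N 0 j = 0 ∧ N 1 j ≠ 0 ∧ N 2 j ≠ 0) ∨ (N 0 j ≠ 0 ∧ N 1 j = 0 ∧ N 2 j ≠ 0) ∨
        (N 0 j ≠ 0 ∧ N 1 j ≠ 0 ∧ N 2 j = 0) := fun j => by
      rcases even_two hF (N0 := N 0 j) (N1 := N 1 j) (N2 := N 2 j)
          (by linear_combination hcol j j) with h | h
      · obtain ⟨i, hi⟩ := hno j
        fin_cases i
        · exact absurd h.1 hi
        · exact absurd h.2.1 hi
        · exact absurd h.2.2 hi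
      · exact h
    have hsame : ∀ i j, N i 0 = 0 → N i j = 0 := fun i j h => by
      have e := hcol 0 j
      have sq : ∀ {x y : F}, x ≠ 0 → y ≠ 0 → x ^ 2 * y ≠ 0 := fun hx hy =>
        mul_ne_zero (pow_ne_zero _ hx) hy
      rcases hz 0 with ⟨a, b, c⟩ | ⟨a, b, c⟩ | ⟨a, b, c⟩ <;>
        rcases hz j with ⟨a', b', c'⟩ | ⟨a', b', c'⟩ | ⟨a', b', c'⟩ <;>
        fin_cases i <;>
        first
          | exact a' | exact b' | exact c'
          | exact absurd h a | exact absurd h b | exact absurd h c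
          | (rw [a, b'] at e; exact absurd (by linear_combination e) (sq c c'))
          | (rw [a, c'] at e; exact absurd (by linear_combination e) (sq b b'))
          | (rw [b, a'] at e; exact absurd (by linear_combination e) (sq c c'))
          | (rw [b, c'] at e; exact absurd (by linear_combination e) (sq a a'))
          | (rw [c, a'] at e; exact absurd (by linear_combination e) (sq b b'))
          | (rw [c, b'] at e; exact absurd (by linear_combination e) (sq a a'))
    obtain ⟨z, hz0⟩ : ∃ z, N z 0 = 0 := by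
      rcases hz 0 with ⟨a, -, -⟩ | ⟨-, b, -⟩ | ⟨-, -, c⟩
      · exact ⟨0, a⟩
      · exact ⟨1, b⟩
      · exact ⟨2, c⟩
    obtain ⟨i, hi⟩ := hno z
    exact hi (by rw [hN1 i z, hsame z i hz0]; simp)
  refine mono_of_col hF (j₀ := k) (k := k) (c := 1) ?_
  rw [one_smul]
  funext i
  rw [H41.Phan.single_mulVec]
  have e := hk i
  simp only [hN, Matrix.add_apply] at e
  simp only [δ, Pi.single_apply]
  rw [Matrix.one_apply] at e
  linear_combination e - (if i = k then (1 : F) else 0) * two_zero hF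

/-- The standard generators of the monomial group of `SU_3(2)`. -/
structure Gens (w : F) (a b : SU 3 F 2) : Prop where
  root : w ^ 2 + w + 1 = 0
  dga : IsDg a ![w, w ^ 2, 1]
  dgb : IsDg b ![1, w, w ^ 2]

theorem exists_gens : ∃ w a b, Gens (F := F) w a b := by
  obtain ⟨w, hw3, -, -, hw⟩ := exists_omega hF
  obtain ⟨a, ha⟩ := exists_isDg hF (c := ![w, w ^ 2, 1])
    (fun i => by fin_cases i <;> simp [hw3, ← pow_mul, pow_mul', pow_right_comm w 2 3])
    (by simp [Fin.prod_univ_three, ← pow_succ', hw3])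
  obtain ⟨b, hb⟩ := exists_isDg hF (c := ![1, w, w ^ 2])
    (fun i => by fin_cases i <;> simp [hw3, ← pow_mul, pow_mul', pow_right_comm w 2 3])
    (by simp [Fin.prod_univ_three, ← pow_succ', hw3])
  exact ⟨w, a, b, hw, ha, hb⟩

variable {w : F} {a b : SU 3 F 2}

theorem Gens.cube_w (G : Gens w a b) : w ^ 3 = 1 := by linear_combination (w - 1) * G.root

theorem Gens.w_ne_one (G : Gens w a b) : w ≠ 1 := fun e => by
  have h := G.root
  rw [e] at h
  exact one_ne_zero (show (1 : F) = 0 by linear_combination h - two_zero hF)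

/-- The swap of the first two coordinates. -/
noncomputable abbrev s₀ : SU 3 F 2 := pm hF (Equiv.swap 0 1)

/-- The swap of the last two coordinates. -/
noncomputable abbrev t₀ : SU 3 F 2 := pm hF (Equiv.swap 1 2)

theorem pm_sq (i j : Fin n) : pm hF (Equiv.swap i j) * pm hF (Equiv.swap i j) = 1 := by
  rw [← pm_mul hF, Equiv.swap_mul_self, pm_one hF]

theorem Gens.conj_s (G : Gens w a b) : s₀ hF * a * s₀ hF = a * a := by
  refine IsDg.unique hF ?_ (G.dga.mul hF G.dga)
  have h := G.dga.conj_pm hF (Equiv.swap 0 1)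
  rw [pm_inv hF, Equiv.swap_inv] at h
  refine h.trans (congrArg diagonal (funext fun i => ?_))
  fin_cases i <;> simp [Equiv.swap_apply_def, pow_two] <;> linear_combination (-w) * G.cube_w hF

theorem Gens.conj_t (G : Gens w a b) : t₀ hF * b * t₀ hF = b * b := by
  refine IsDg.unique hF ?_ (G.dgb.mul hF G.dgb)
  have h := G.dgb.conj_pm hF (Equiv.swap 1 2)
  rw [pm_inv hF, Equiv.swap_inv] at h
  refine h.trans (congrArg diagonal (funext fun i => ?_))
  fin_cases i <;> simp [Equiv.swap_apply_def, pow_two] <;> linear_combination (-w) * G.cube_w hF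

theorem perm3_cases : ∀ σ : Equiv.Perm (Fin 3), σ = 1 ∨ σ = Equiv.swap 0 1 ∨
    σ = Equiv.swap 1 2 ∨ σ = Equiv.swap 0 1 * Equiv.swap 1 2 ∨
    σ = Equiv.swap 1 2 * Equiv.swap 0 1 ∨
    σ = Equiv.swap 0 1 * Equiv.swap 1 2 * Equiv.swap 0 1 := by decide

/-- A subgroup with the generators contains every monomial element. -/
theorem Gens.mono_mem (G : Gens w a b) {H : Subgroup (SU 3 F 2)} (ha : a ∈ H) (hb : b ∈ H)
    (hs : s₀ hF ∈ H) (ht : t₀ hF ∈ H) {g : SU 3 F 2} (hg : IsMono g) : g ∈ H := by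
  obtain ⟨σ, e, c, he, rfl⟩ := mono_decomp hF hg
  refine H.mul_mem ?_ ?_
  · rcases perm3_cases hF σ with rfl | rfl | rfl | rfl | rfl | rfl
    · rw [pm_one hF]; exact one_mem _
    · exact hs
    · exact ht
    · rw [pm_mul hF]; exact mul_mem hs ht
    · rw [pm_mul hF]; exact mul_mem ht hs
    · rw [pm_mul hF, pm_mul hF]; exact mul_mem (mul_mem hs ht) hs
  · have h3 := G.cube_w hF
    have hexp : ∀ j, ∃ k : ℕ, c j = w ^ k := fun j => by
      have h0 : c j ≠ 0 := fun h => col_ne_zero hF e j (by rw [he.mulVec hF, h, zero_smul])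
      rcases mem_omega hF G.root h0 with h | h | h
      · exact ⟨0, by rw [h, pow_zero]⟩
      · exact ⟨1, by rw [h, pow_one]⟩
      · exact ⟨2, h⟩
    obtain ⟨i, hi⟩ := hexp 0
    obtain ⟨k, hk⟩ := hexp 2
    have hd := (G.dga.pow hF i).mul hF (G.dgb.pow hF (2 * k))
    have hp := hd.prod hF
    have hp' := he.prod hF
    rw [Fin.prod_univ_three] at hp hp'
    have e0 : (![w, w ^ 2, 1] ^ i * ![1, w, w ^ 2] ^ (2 * k) : Fin 3 → F) 0 = c 0 := by simp [hi]
    have e2 : (![w, w ^ 2, 1] ^ i * ![1, w, w ^ 2] ^ (2 * k) : Fin 3 → F) 2 = c 2 := by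
      simp only [Pi.mul_apply, Pi.pow_apply, hk]
      show 1 ^ i * (w ^ 2) ^ (2 * k) = _
      rw [one_pow, one_mul, ← pow_mul, show 2 * (2 * k) = 3 * k + k by ring, pow_add, pow_mul, h3,
        one_pow, one_mul]
    rw [e0, e2] at hp
    have hne : ∀ j, c j ≠ 0 := fun j h => col_ne_zero hF e j (by rw [he.mulVec hF, h, zero_smul])
    have e1 := mul_left_cancel₀ (hne 0) (mul_right_cancel₀ (hne 2) (hp.trans hp'.symm))
    have : e = a ^ i * b ^ (2 * k) := IsDg.unique hF he (hd.trans (congrArg diagonal (funext fun j => by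
      fin_cases j
      · exact e0
      · exact e1
      · exact e2)))
    rw [this]
    exact mul_mem (pow_mem ha _) (pow_mem hb _)

/-- A non-monomial element of order four. -/
theorem exists_four : ∃ K : SU 3 F 2, K ^ 4 = 1 ∧ ∀ i, (suMat K *ᵥ δ 0) i = 1 := by
  obtain ⟨w, hw3, -, -, hw⟩ := exists_omega hF
  have h2 := two_zero hF
  have hiso : IsIso 2 !![(1 : F), 1, 1; 1, w, w ^ 2; 1, w ^ 2, w] :=
    SCFour.isIso_of_adj hF (Matrix.ext fun i j => by
      rw [Matrix.mul_apply, Fin.sum_univ_three]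
      fin_cases i <;> fin_cases j <;> simp [H51.adj] <;> grind)
  have hdet : (!![(1 : F), 1, 1; 1, w, w ^ 2; 1, w ^ 2, w]).det = 1 := by
    rw [Matrix.det_fin_three]; simp; grind
  refine ⟨mkSU _ hiso hdet, ?_, fun i => ?_⟩
  · have hsq : mkSU _ hiso hdet * mkSU _ hiso hdet = pm hF (Equiv.swap (1 : Fin 3) 2) := by
      refine SU_ext (Matrix.ext fun i j => ?_)
      show (!![(1 : F), 1, 1; 1, w, w ^ 2; 1, w ^ 2, w] *
        !![(1 : F), 1, 1; 1, w, w ^ 2; 1, w ^ 2, w]) i j =
        suMat (pm hF (Equiv.swap (1 : Fin 3) 2)) i j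
      rw [Matrix.mul_apply, Fin.sum_univ_three, ← H41.Phan.single_mulVec, pm_single hF]
      fin_cases i <;> fin_cases j <;> simp [δ, Equiv.swap_apply_def] <;> grind
    rw [show (4 : ℕ) = 2 * 2 from rfl, pow_mul, pow_two (mkSU _ hiso hdet), hsq, pow_two,
      pm_sq hF]
  · rw [H41.Phan.single_mulVec]
    fin_cases i <;> rfl

/-- A homomorphism of exponent three killing the monomial group is trivial. -/
theorem Gens.kill (G : Gens w a b) {A : Type v} [Group A] (χ : SU 3 F 2 →* A) (ha : χ a = 1)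
    (hb : χ b = 1) (hs : χ (s₀ hF) = 1) (ht : χ (t₀ hF) = 1) (h3 : ∀ g, χ g ^ 3 = 1)
    (g : SU 3 F 2) : χ g = 1 := by
  have hmono : ∀ x, IsMono x → χ x = 1 := fun x hx =>
    G.mono_mem hF (H := χ.ker) ha hb hs ht hx
  set v := suMat g *ᵥ δ (0 : Fin 3) with hv
  by_cases hz : ∃ i, v i = 0
  · obtain ⟨i, hi⟩ := hz
    obtain ⟨x, y, hxy⟩ := exists_pair_cover hF i
    have hs : Supp {x, y} v := fun j hj => by
      by_cases hji : j = i
      · rw [hji]; exact hi
      · exact absurd (hxy j hji) (by simpa using hj)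
    rcases unit_pair hF hs (col_unit hF g 0) with ⟨e, -⟩ | ⟨e, -⟩ <;>
      exact hmono g (mono_of_col hF e)
  push Not at hz
  set l := (v 0 * v 1 * v 2) ^ 2 with hl
  have hp3 : (v 0 * v 1 * v 2) ^ 3 = 1 := by
    rw [mul_pow, mul_pow, cube hF (hz 0), cube hF (hz 1), cube hF (hz 2), one_mul, one_mul]
  have hl3 : l ^ 3 = 1 := by rw [hl, pow_right_comm, hp3, one_pow]
  obtain ⟨T, hT⟩ := exists_isDg hF (c := ![v 0, v 1 * l ^ 2, v 2 * l ^ 2])
    (fun i => by
      fin_cases i
      · exact cube hF (hz 0)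
      · show (v 1 * l ^ 2) ^ 3 = 1
        rw [mul_pow, cube hF (hz 1), ← pow_mul, mul_comm 2 3, pow_mul, hl3, one_pow, one_mul]
      · show (v 2 * l ^ 2) ^ 3 = 1
        rw [mul_pow, cube hF (hz 2), ← pow_mul, mul_comm 2 3, pow_mul, hl3, one_pow, one_mul])
    (by
      rw [Fin.prod_univ_three]
      show v 0 * (v 1 * l ^ 2) * (v 2 * l ^ 2) = 1
      rw [hl]
      linear_combination ((v 0 * v 1 * v 2) ^ 6 + (v 0 * v 1 * v 2) ^ 3 + 1) * hp3)
  obtain ⟨K, hK, hK0⟩ := exists_four hF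
  have hd : ∀ i, (![1, l, l] : Fin 3 → F) i ^ (2 + 1) = 1 := fun i => by
    fin_cases i
    · exact one_pow _
    · exact hl3
    · exact hl3
  set K' := twist hF ![1, l, l] hd (RingEquiv.refl F) K with hK'
  have hK4 : χ K' ^ 4 = 1 := by rw [← map_pow, hK', ← map_pow, hK, map_one, map_one]
  have hK1 : χ K' = 1 := by rw [pow_succ, h3, one_mul] at hK4; exact hK4
  have hTK : suMat (T * K') *ᵥ δ 0 = v := by
    funext i
    have hKi : suMat K i 0 = 1 := by rw [← H41.Phan.single_mulVec]; exact hK0 i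
    rw [suMat_mulVec_mul, show suMat T = diagonal _ from hT, mulVec_diagonal,
      H41.Phan.single_mulVec, hK', twist_apply hF, RingEquiv.refl_apply, hKi, mul_one,
      show (![1, l, l] : Fin 3 → F) 0 = 1 from rfl, one_pow, mul_one]
    fin_cases i
    · exact mul_one _
    · show v 1 * l ^ 2 * l = v 1
      linear_combination v 1 * hl3
    · show v 2 * l ^ 2 * l = v 2
      linear_combination v 2 * hl3
  have hh : IsMono ((T * K')⁻¹ * g) := mono_of_col hF (j₀ := 0) (k := 0) (c := 1) (by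
    rw [suMat_mulVec_mul, ← hv, ← hTK, suMat_inv_mulVec, one_smul])
  have hTm : IsMono T := fun j => ⟨j, _, hT.mulVec hF j⟩
  have := hmono _ hh
  rw [map_mul, map_inv, map_mul, hmono T hTm, hK1, one_mul, inv_one, one_mul] at this
  exact this

theorem IsDg.commute_of_const {y : SU n F 2} {l : F} (h : IsDg y fun _ => l) (x : SU n F 2) :
    Commute y x := by
  refine SU_ext ?_
  show suMat (y * x) = suMat (x * y)
  rw [suMat_mul, suMat_mul, show suMat y = diagonal fun _ => l from h]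
  ext i j
  rw [diagonal_mul, mul_diagonal, mul_comm]

theorem IsDg.swap_eq {y : SU n F 2} {d : Fin n → F} (hd : IsDg y d) (i j : Fin n)
    (h : Commute (pm hF (Equiv.swap i j)) y) : d i = d j := by
  have e1 : suMat (pm hF (Equiv.swap i j) * y) *ᵥ δ i =
      suMat (y * pm hF (Equiv.swap i j)) *ᵥ δ i := by rw [h.eq]
  rw [suMat_mulVec_mul, suMat_mulVec_mul, pm_single hF, Equiv.swap_apply_left, hd.mulVec hF,
    mulVec_smul, pm_single hF, Equiv.swap_apply_left, hd.mulVec hF] at e1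
  simpa [δ] using congrFun e1 j

/-- An endomorphism fixing the generators is the identity. -/
theorem Gens.rigid (G : Gens w a b) (φ : SU 3 F 2 →* SU 3 F 2) (ha : φ a = a) (hb : φ b = b)
    (hs : φ (s₀ hF) = s₀ hF) (ht : φ (t₀ hF) = t₀ hF) (g : SU 3 F 2) : φ g = g := by
  have hfix : ∀ x, IsMono x → φ x = x := fun x hx =>
    G.mono_mem hF (H := φ.eqLocus (MonoidHom.id _)) ha hb hs ht hx
  have hnorm : ∀ g x, x ∈ ({a, b, s₀ hF, t₀ hF} : Set (SU 3 F 2)) → φ (g * x * g⁻¹) = g * x * g⁻¹ := by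
    have inv : ∀ g y : SU 3 F 2, y * y = 1 → φ (g * y * g⁻¹) = g * y * g⁻¹ := fun g y hy =>
      hfix _ (mono_of_invol hF (by
        rw [show g * y * g⁻¹ * (g * y * g⁻¹) = g * (y * y) * g⁻¹ by group, hy, mul_one,
          mul_inv_cancel]))
    have prod : ∀ (x y : SU 3 F 2), y * y = 1 → y * x * y = x * x → x ^ 3 = 1 → ∀ g,
        φ (g * x * g⁻¹) = g * x * g⁻¹ := fun x y hy hyx hx g => by
      have h1 : y * x * (y * x) = 1 := by
        rw [← mul_assoc, hyx, mul_assoc, ← pow_two, ← pow_succ', hx]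
      rw [show g * x * g⁻¹ = g * y * g⁻¹ * (g * (y * x) * g⁻¹) by
        rw [show g * y * g⁻¹ * (g * (y * x) * g⁻¹) = g * (y * y) * x * g⁻¹ by group, hy, mul_one],
        map_mul, inv g y hy, inv g (y * x) h1]
    intro g x hx
    simp only [Set.mem_insert_iff, Set.mem_singleton_iff] at hx
    rcases hx with rfl | rfl | rfl | rfl
    · exact prod _ _ (pm_sq hF _ _) (G.conj_s hF) (G.dga.pow_three hF) g
    · exact prod _ _ (pm_sq hF _ _) (G.conj_t hF) (G.dgb.pow_three hF) g
    · exact inv g _ (pm_sq hF _ _)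
    · exact inv g _ (pm_sq hF _ _)
  have hcomm : ∀ g x, x ∈ ({a, b, s₀ hF, t₀ hF} : Set (SU 3 F 2)) → Commute x (g⁻¹ * φ g) :=
    fun g x hx => by
      have hxf : φ x = x := by
        simp only [Set.mem_insert_iff, Set.mem_singleton_iff] at hx
        rcases hx with rfl | rfl | rfl | rfl <;> assumption
      have e := hnorm g x hx
      rw [map_mul, map_mul, map_inv, hxf] at e
      show x * (g⁻¹ * φ g) = g⁻¹ * φ g * x
      calc x * (g⁻¹ * φ g) = g⁻¹ * (g * x * g⁻¹) * φ g := by group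
        _ = g⁻¹ * (φ g * x * (φ g)⁻¹) * φ g := by rw [e]
        _ = g⁻¹ * φ g * x := by group
  have hcen : ∀ g, ∃ l : F, IsDg (g⁻¹ * φ g) fun _ => l := fun g => by
    have hai : Function.Injective (![w, w ^ 2, 1] : Fin 3 → F) :=
      dg3_injective hF G.dga ⟨0, 2, G.w_ne_one hF⟩
    have hd := isDg_of_commute hF G.dga hai (hcomm g a (by simp))
    have e1 := hd.swap_eq hF 0 1 (hcomm g _ (by simp))
    have e2 := hd.swap_eq hF 1 2 (hcomm g _ (by simp))
    refine ⟨suMat (g⁻¹ * φ g) 2 2, hd.trans (congrArg diagonal (funext fun i => ?_))⟩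
    fin_cases i
    · exact e1.trans e2
    · exact e2
    · rfl
  have hc : ∀ g x, Commute (g⁻¹ * φ g) x := fun g x => by
    obtain ⟨l, hl⟩ := hcen g
    exact hl.commute_of_const hF x
  let χ : SU 3 F 2 →* SU 3 F 2 :=
    { toFun := fun g => g⁻¹ * φ g
      map_one' := by simp
      map_mul' := fun x y => by
        rw [map_mul, _root_.mul_inv_rev,
          show y⁻¹ * x⁻¹ * (φ x * φ y) = y⁻¹ * (x⁻¹ * φ x) * φ y by group,
          ← (hc x y⁻¹).eq, mul_assoc] }
  have h := G.kill hF χ (show a⁻¹ * φ a = 1 by rw [ha, inv_mul_cancel])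
    (show b⁻¹ * φ b = 1 by rw [hb, inv_mul_cancel])
    (show _⁻¹ * φ _ = 1 by rw [hs, inv_mul_cancel])
    (show _⁻¹ * φ _ = 1 by rw [ht, inv_mul_cancel])
    (fun g => by obtain ⟨l, hl⟩ := hcen g; exact hl.pow_three hF) g
  exact (inv_mul_eq_one.1 (show g⁻¹ * φ g = 1 from h)).symm

theorem three_cover : ∀ i : Fin 3, ∃ p q : Fin 3, p ≠ i ∧ q ≠ i ∧ p ≠ q ∧
    ∀ j, j = i ∨ j = p ∨ j = q := by decide

theorem perm_two_points : ∀ i k : Fin 3, i ≠ k → ∃ σ : Equiv.Perm (Fin 3), σ i = 2 ∧ σ k = 0 := by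
  decide

/-- Automorphisms are inner by diagonal and field automorphisms. -/
theorem aut3 (α : SU 3 F 2 →* SU 3 F 2) (hα : Function.Injective α) :
    ∃ (g₀ : SU 3 F 2) (d : Fin 3 → F) (hd : ∀ i, d i ^ (2 + 1) = 1) (σ : F ≃+* F),
      ∀ x, α x = g₀ * twist hF d hd σ x * g₀⁻¹ := by
  obtain ⟨w, a, b, G⟩ := exists_gens hF
  have w1 := G.w_ne_one hF
  have w3 := G.cube_w hF
  obtain ⟨g₁, c, hc⟩ := diagonalise hF (z := α a) (by rw [← map_pow, G.dga.pow_three hF, map_one])
  let β : SU 3 F 2 →* SU 3 F 2 := (MulAut.conj g₁⁻¹).toMonoidHom.comp α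
  have hβ : Function.Injective β := (MulAut.conj g₁⁻¹).injective.comp hα
  have hβa : IsDg (β a) c := by
    show IsDg (g₁⁻¹ * α a * g₁⁻¹⁻¹) c
    rw [inv_inv]
    exact hc
  have hne : ∀ {x : SU 3 F 2} {e : Fin 3 → F} {y : SU 3 F 2}, IsDg (β x) e → y * y = 1 →
      y * x * y = x * x → x ≠ 1 → ∃ i j, e i ≠ e j := by
    intro x e y he hy hyx hx
    by_contra h
    push Not at h
    have hcomm : Commute (β x) (β y) := SU_ext (by
      show suMat (β x * β y) = suMat (β y * β x)
      rw [suMat_mul, suMat_mul, show suMat (β x) = diagonal e from he]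
      ext i j
      rw [diagonal_mul, mul_diagonal, mul_comm, h i j])
    have e1 : y * x * y = x := hβ (by
      rw [map_mul, map_mul, ← hcomm.eq, mul_assoc, ← map_mul, hy, map_one, mul_one])
    rw [hyx] at e1
    exact hx (mul_left_cancel (e1.trans (mul_one x).symm))
  have ne1 : ∀ {x : SU 3 F 2} {e : Fin 3 → F}, IsDg x e → (∃ i, e i ≠ 1) → x ≠ 1 :=
    fun {x e} h ⟨i, hi⟩ h1 => hi (congrFun (h.inj hF (h1 ▸ isDg_one hF)) i)
  have hci := dg3_injective hF hβa (hne hβa (pm_sq hF _ _) (G.conj_s hF) (ne1 G.dga ⟨0, w1⟩))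
  have hβb := isDg_of_commute hF hβa hci ((G.dga.commute hF G.dgb).map β)
  set e : Fin 3 → F := fun i => suMat (β b) i i
  have hei := dg3_injective hF hβb (hne hβb (pm_sq hF _ _) (G.conj_t hF) (ne1 G.dgb ⟨1, w1⟩))
  obtain ⟨i, hi⟩ := dg3_one hF hβa hci
  obtain ⟨k, hk⟩ := dg3_one hF hβb hei
  have hik : i ≠ k := by
    rintro rfl
    have hval : ∀ (f : Fin 3 → F), Function.Injective f → f i = 1 → (∀ j, f j ≠ 0) → ∀ j, j ≠ i →
        f j = w ∨ f j = w ^ 2 := fun f hf hfi hf0 j hj => by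
      rcases mem_omega hF G.root (hf0 j) with h | h
      · exact absurd (hf (h.trans hfi.symm)) hj
      · exact h
    have c0 : ∀ j, c j ≠ 0 := fun j h => col_ne_zero hF _ j (by rw [hβa.mulVec hF, h, zero_smul])
    have e0 : ∀ j, e j ≠ 0 := fun j h => col_ne_zero hF _ j (by rw [hβb.mulVec hF, h, zero_smul])
    obtain ⟨p, q, hpi, hqi, hpq, hcov⟩ := three_cover hF i
    have key : ∀ {x : SU 3 F 2} {f : Fin 3 → F}, IsDg x f → f i = 1 → f q = f p ^ 2 := by
      intro x f hx hfi
      have hp := hx.prod hF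
      rw [← Finset.prod_subset (Finset.subset_univ ({i, p, q} : Finset (Fin 3)))
        (fun j _ hj => absurd (hcov j) (by simpa using hj)),
        Finset.prod_insert (by simp [hpi.symm, hqi.symm]), Finset.prod_pair hpq, hfi, one_mul] at hp
      linear_combination (f p) ^ 2 * hp - f q * hx.cube hF p
    have hcase : e = c ∨ e = c ^ 2 := by
      have hk' := key hβb hk
      have hc' := key hβa hi
      rcases hval c hci hi c0 p hpi with h1 | h1 <;> rcases hval e hei hk e0 p hpi with h2 | h2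
      · left; funext j
        rcases hcov j with rfl | rfl | rfl
        · rw [hi, hk]
        · rw [h1, h2]
        · rw [hk', hc', h1, h2]
      · right; funext j
        rcases hcov j with rfl | rfl | rfl
        · simp [hi, hk]
        · simp [h1, h2]
        · simp [hk', hc', h1, h2]
      · right; funext j
        rcases hcov j with rfl | rfl | rfl
        · simp [hi, hk]
        · simp only [Pi.pow_apply, h1, h2]; linear_combination (-w) * w3
        · simp only [Pi.pow_apply, hk', hc', h1, h2]; linear_combination (-(w ^ 2) * (w ^ 3 + 1)) * w3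
      · left; funext j
        rcases hcov j with rfl | rfl | rfl
        · rw [hi, hk]
        · rw [h1, h2]
        · rw [hk', hc', h1, h2]
    have hab : b = a ∨ b = a ^ 2 := by
      rcases hcase with h | h
      · exact Or.inl (hβ (IsDg.unique hF hβb (hβa.trans (congrArg diagonal h.symm))))
      · refine Or.inr (hβ (IsDg.unique hF hβb ?_))
        rw [map_pow]
        exact (hβa.pow hF 2).trans (congrArg diagonal h.symm)
    rcases hab with h | h
    · exact w1 (congrFun (G.dga.inj hF (c' := ![1, w, w ^ 2]) (h ▸ G.dgb)) 0)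
    · have h' := congrFun ((G.dga.pow hF 2).inj hF (c' := ![1, w, w ^ 2]) (h ▸ G.dgb)) 2
      simp at h'
      exact w1 (by linear_combination w3 + w * h')
  obtain ⟨π, hπi, hπk⟩ := perm_two_points hF i k hik
  let γ : SU 3 F 2 →* SU 3 F 2 := (MulAut.conj (pm hF π)).toMonoidHom.comp β
  have hγ : Function.Injective γ := (MulAut.conj (pm hF π)).injective.comp hβ
  have hγa : IsDg (γ a) (c ∘ π.symm) := hβa.conj_pm hF π
  have hγb : IsDg (γ b) (e ∘ π.symm) := hβb.conj_pm hF π
  set c' : Fin 3 → F := c ∘ π.symm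
  set e' : Fin 3 → F := e ∘ π.symm
  have hc'2 : c' 2 = 1 := by simp [c', ← hπi, hi]
  have he'0 : e' 0 = 1 := by simp [e', ← hπk, hk]
  have hc'i : Function.Injective c' := hci.comp π.symm.injective
  have he'i : Function.Injective e' := hei.comp π.symm.injective
  set u := c' 0
  set u' := e' 1
  have hu1 : u ≠ 1 := fun h => absurd (hc'i (h.trans hc'2.symm)) (by decide)
  have hu'1 : u' ≠ 1 := fun h => absurd (he'i (h.trans he'0.symm)) (by decide)
  have hu3 : u ^ 3 = 1 := hγa.cube hF 0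
  have hu'3 : u' ^ 3 = 1 := hγb.cube hF 1
  have hcA : c' = ![u, u ^ 2, 1] := by
    have hp := hγa.prod hF
    rw [Fin.prod_univ_three, hc'2, mul_one] at hp
    funext j
    fin_cases j
    · rfl
    · show c' 1 = u ^ 2
      linear_combination u ^ 2 * hp - c' 1 * hu3
    · exact hc'2
  have heB : e' = ![1, u', u' ^ 2] := by
    have hp := hγb.prod hF
    rw [Fin.prod_univ_three, he'0, one_mul] at hp
    funext j
    fin_cases j
    · exact he'0
    · rfl
    · show e' 2 = u' ^ 2
      linear_combination u' ^ 2 * hp - e' 2 * hu'3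
  rw [hcA] at hγa
  rw [heB] at hγb
  have hbij : Function.Surjective γ := (Finite.injective_iff_bijective.1 hγ).2
  have huu : u = u' := by
    have hz := (G.dga.mul hF (G.dgb.pow hF 2))
    have hzc : ∀ x, Commute (a * b ^ 2) x := fun x => by
      refine IsDg.commute_of_const hF (l := w) (hz.trans (congrArg diagonal (funext fun i => ?_))) x
      fin_cases i <;> simp
      · linear_combination w * w3
      · linear_combination w * w3
    have hγz := hγa.mul hF (hγb.pow hF 2)
    obtain ⟨x, hx⟩ := hbij (pm hF (Equiv.swap 0 2))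
    have hcm : Commute (γ (a * b ^ 2)) (pm hF (Equiv.swap 0 2)) := hx ▸ (hzc x).map γ
    rw [map_mul, map_pow] at hcm
    by_contra hne'
    have := apply_of_commute hF hγz hcm (i := 2) (j := 0) (by
      simp only [Pi.mul_apply, Pi.pow_apply]
      show (1 : F) * (u' ^ 2) ^ 2 ≠ u * 1 ^ 2
      intro h
      apply hne'
      linear_combination -h + u' * hu'3)
    rw [← H41.Phan.single_mulVec, pm_single hF] at this
    simp at this
  rw [← huu] at hγb
  have hu : u = w ∨ u = w ^ 2 := by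
    rcases mem_omega hF G.root (fun h => by rw [h] at hu3; simp at hu3 : u ≠ 0) with h | h
    · exact absurd h hu1
    · exact h
  obtain ⟨σ, hσ⟩ : ∃ σ : F ≃+* F, σ w = u := by
    rcases hu with h | h
    · exact ⟨RingEquiv.refl F, h.symm⟩
    · exact ⟨RingEquiv.ofBijective (conjHom hF) (conjHom_bijective hF), h.symm⟩
  have hgs : γ (s₀ hF) * γ (s₀ hF) = 1 := by rw [← map_mul, pm_sq hF, map_one]
  have hgt : γ (t₀ hF) * γ (t₀ hF) = 1 := by rw [← map_mul, pm_sq hF, map_one]
  have hua : Function.Injective (![u, u ^ 2, 1] : Fin 3 → F) := hcA ▸ hc'i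
  have hub : Function.Injective (![1, u, u ^ 2] : Fin 3 → F) := by
    rw [huu, ← heB]; exact he'i
  have hsf : suMat (γ (s₀ hF)) *ᵥ δ 2 = δ 2 := inv_fix hF hγa hgs
    (by rw [← map_mul, ← map_mul, G.conj_s hF, map_mul]) rfl
    (fun j hj h => hj (hua (h.trans (show (1 : F) = ![u, u ^ 2, 1] 2 from rfl))))
  have htf : suMat (γ (t₀ hF)) *ᵥ δ 0 = δ 0 := inv_fix hF hγb hgt
    (by rw [← map_mul, ← map_mul, G.conj_t hF, map_mul]) rfl
    (fun j hj h => hj (hub (h.trans (show (1 : F) = ![1, u, u ^ 2] 0 from rfl))))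
  have hswap : ∀ (y x : SU 3 F 2) (f : Fin 3 → F) (p q r : Fin 3), y * y = 1 →
      suMat y *ᵥ δ r = δ r → IsDg x f → y * x * y = x * x → f p ≠ 1 → p ≠ r → p ≠ q →
      (∀ j, j = p ∨ j = q ∨ j = r) →
      ∃ m : F, m ^ 3 = 1 ∧ suMat y *ᵥ δ p = m • δ q ∧ suMat y *ᵥ δ q = m ^ 2 • δ p := by
    intro y x f p q r hy hr hx hyx hfp hpr hpq hcov
    have hs : Supp {p, q} (suMat y *ᵥ δ p) := fun j hj => by
      rcases hcov j with rfl | rfl | rfl
      · simp at hj
      · simp at hj
      · have e := suMat_h y (δ p) (δ j)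
        rwa [hr, h_single_right hF, h_single_single hF, if_neg hpr] at e
    rcases unit_pair hF hs (col_unit hF y p) with ⟨e, h0⟩ | ⟨e, h0⟩
    · exfalso
      set m := (suMat y *ᵥ δ p) p with hm
      clear_value m
      have e1 : suMat (y * x * y) *ᵥ δ p = suMat (x * x) *ᵥ δ p := by rw [hyx]
      simp only [suMat_mulVec_mul, e, mulVec_smul, hx.mulVec hF, smul_smul] at e1
      have h1 : suMat (y * y) *ᵥ δ p = δ p := by rw [hy, suMat_one, one_mulVec]
      rw [suMat_mulVec_mul, e, mulVec_smul, e, smul_smul] at h1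
      have e2 := congrFun e1 p
      have h2 := congrFun h1 p
      simp only [Pi.smul_apply, δ, Pi.single_eq_same, smul_eq_mul, mul_one] at e2 h2
      have : f p * (f p - 1) = 0 := by linear_combination f p * h2 - e2
      have hfp0 : f p ≠ 0 := fun h => col_ne_zero hF x p (by rw [hx.mulVec hF, h, zero_smul])
      exact hfp (sub_eq_zero.1 ((mul_eq_zero.1 this).resolve_left hfp0))
    · refine ⟨_, cube hF h0, e, ?_⟩
      set m := (suMat y *ᵥ δ p) q
      have h1 : suMat (y * y) *ᵥ δ p = δ p := by rw [hy, suMat_one, one_mulVec]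
      rw [suMat_mulVec_mul, e, mulVec_smul] at h1
      calc suMat y *ᵥ δ q = m ^ 3 • (suMat y *ᵥ δ q) := by rw [cube hF h0, one_smul]
        _ = m ^ 2 • (m • (suMat y *ᵥ δ q)) := by rw [smul_smul, ← pow_succ]
        _ = m ^ 2 • δ p := by rw [h1]
  obtain ⟨x, hx3, hsx, hsx'⟩ := hswap (γ (s₀ hF)) (γ a) _ 0 1 2 hgs hsf hγa
    (by rw [← map_mul, ← map_mul, G.conj_s hF, map_mul]) hu1 (by decide) (by decide) (by decide)
  obtain ⟨y, hy3, hty, hty'⟩ := hswap (γ (t₀ hF)) (γ b) _ 1 2 0 hgt htf hγb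
    (by rw [← map_mul, ← map_mul, G.conj_t hF, map_mul]) hu1 (by decide) (by decide) (by decide)
  have hd : ∀ j, (![x ^ 2, 1, y] : Fin 3 → F) j ^ (2 + 1) = 1 := fun j => by
    fin_cases j
    · show (x ^ 2) ^ 3 = 1
      rw [← pow_mul, mul_comm, pow_mul, hx3, one_pow]
    · exact one_pow _
    · exact hy3
  refine ⟨g₁ * (pm hF π)⁻¹, _, hd, σ, fun g => ?_⟩
  let τ : SU 3 F 2 ≃* SU 3 F 2 := MulEquiv.ofBijective _ (twist_bijective hF _ hd σ)
  have hdiag : ∀ (z : SU 3 F 2) (f f' : Fin 3 → F), IsDg z f → (∀ j, σ (f j) = f' j) →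
      IsDg (τ z) f' := fun z f f' hz hf => by
    refine Matrix.ext fun i j => ?_
    show suMat (twist hF _ hd σ z) i j = diagonal f' i j
    rw [twist_apply hF, show suMat z = diagonal f from hz]
    by_cases hij : i = j
    · subst hij
      rw [diagonal_apply_eq, diagonal_apply_eq, hf]
      linear_combination f' i * hd i
    · simp [diagonal_apply_ne _ hij]
  have hta : τ a = γ a := IsDg.unique hF (hdiag a _ _ G.dga fun j => by
    fin_cases j
    · exact hσ
    · show σ (w ^ 2) = u ^ 2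
      rw [map_pow, hσ]
    · exact map_one σ) hγa
  have htb : τ b = γ b := IsDg.unique hF (hdiag b _ _ G.dgb fun j => by
    fin_cases j
    · exact map_one σ
    · exact hσ
    · show σ (w ^ 2) = u ^ 2
      rw [map_pow, hσ]) hγb
  have hpm : ∀ (ρ : Equiv.Perm (Fin 3)) (j : Fin 3), suMat (τ (pm hF ρ)) *ᵥ δ j =
      ((![x ^ 2, 1, y] : Fin 3 → F) (ρ j) * (![x ^ 2, 1, y] : Fin 3 → F) j ^ 2) • δ (ρ j) :=
    fun ρ j => by
      funext i
      rw [H41.Phan.single_mulVec]
      show suMat (twist hF _ hd σ (pm hF ρ)) i j = _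
      rw [twist_apply hF, ← H41.Phan.single_mulVec, pm_single hF]
      by_cases hi : i = ρ j
      · subst hi; simp [δ]
      · simp [δ, hi]
  have hts : τ (s₀ hF) = γ (s₀ hF) := SU_ext (Matrix.ext_of_mulVec_single fun j => by
    show suMat (τ (s₀ hF)) *ᵥ δ j = suMat (γ (s₀ hF)) *ᵥ δ j
    rw [hpm]
    fin_cases j
    · show _ = suMat (γ (s₀ hF)) *ᵥ δ 0
      rw [hsx]
      simp only [Fin.zero_eta, Equiv.swap_apply_left]
      congr 1
      show 1 * (x ^ 2) ^ 2 = x
      linear_combination x * hx3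
    · show _ = suMat (γ (s₀ hF)) *ᵥ δ 1
      rw [hsx']
      simp only [Fin.mk_one, Equiv.swap_apply_right]
      congr 1
      show x ^ 2 * 1 ^ 2 = x ^ 2
      ring
    · show _ = suMat (γ (s₀ hF)) *ᵥ δ 2
      rw [hsf, Equiv.swap_apply_of_ne_of_ne (by decide) (by decide)]
      show (y * y ^ 2) • (δ 2 : Fin 3 → F) = δ 2
      rw [← pow_succ', hy3, one_smul])
  have htt : τ (t₀ hF) = γ (t₀ hF) := SU_ext (Matrix.ext_of_mulVec_single fun j => by
    show suMat (τ (t₀ hF)) *ᵥ δ j = suMat (γ (t₀ hF)) *ᵥ δ j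
    rw [hpm]
    fin_cases j
    · show _ = suMat (γ (t₀ hF)) *ᵥ δ 0
      rw [htf, Equiv.swap_apply_of_ne_of_ne (by decide) (by decide)]
      show (x ^ 2 * (x ^ 2) ^ 2) • (δ 0 : Fin 3 → F) = δ 0
      rw [show x ^ 2 * (x ^ 2) ^ 2 = 1 by linear_combination (x ^ 3 + 1) * hx3, one_smul]
    · show _ = suMat (γ (t₀ hF)) *ᵥ δ 1
      rw [hty]
      simp only [Fin.mk_one, Equiv.swap_apply_left]
      congr 1
      show y * 1 ^ 2 = y
      ring
    · show _ = suMat (γ (t₀ hF)) *ᵥ δ 2
      rw [hty']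
      simp only [Fin.reduceFinMk, Equiv.swap_apply_right]
      congr 1
      show 1 * y ^ 2 = y ^ 2
      ring)
  have hid := G.rigid hF (τ.symm.toMonoidHom.comp γ)
    (show τ.symm (γ a) = a by rw [← hta, τ.symm_apply_apply])
    (show τ.symm (γ b) = b by rw [← htb, τ.symm_apply_apply])
    (show τ.symm (γ _) = _ by rw [← hts, τ.symm_apply_apply])
    (show τ.symm (γ _) = _ by rw [← htt, τ.symm_apply_apply]) g
  have hg : γ g = twist hF _ hd σ g := by
    have := congrArg τ hid
    rwa [show (τ.symm.toMonoidHom.comp γ) g = τ.symm (γ g) from rfl, τ.apply_symm_apply] at this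
  rw [← hg]
  show α g = g₁ * (pm hF π)⁻¹ * (pm hF π * (g₁⁻¹ * α g * g₁⁻¹⁻¹) * (pm hF π)⁻¹) *
    (g₁ * (pm hF π)⁻¹)⁻¹
  group

end H42.Phan
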