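import Cfsg.Agent.H41.Phan.Emb

/-!
Special unitary groups over the field of four elements: diagonal and permutation matrices, windows of
two coordinates, and diagonalisation of elements of exponent three.
-/

set_option autoImplicit false
set_option linter.unusedSectionVars false

namespace H42.Phan

open Matrix Cfsg H50 H69.SUW H41.Phan

universe u

variable {F : Type u} [Field F] [Fintype F] {n : ℕ} (hF : Fintype.card F = 2 ^ 2)
include hF

theorem two_zero : (2 : F) = 0 := by
  obtain ⟨p, hp⟩ := CharP.exists F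
  obtain ⟨m, hpp, hm⟩ := FiniteField.card F p
  have h2 : p ∣ 2 ^ 2 := by rw [← hF, hm]; exact dvd_pow_self p m.ne_zero
  have : p = 2 := (Nat.prime_dvd_prime_iff_eq hpp Nat.prime_two).1 (hpp.dvd_of_dvd_pow h2)
  subst this
  exact_mod_cast CharP.cast_eq_zero F 2

theorem neg_self (x : F) : -x = x := by linear_combination (-x) * two_zero hF

theorem cube {x : F} (hx : x ≠ 0) : x ^ 3 = 1 := by
  have := FiniteField.pow_card_sub_one_eq_one x hx
  rwa [hF] at this

theorem exists_omega : ∃ w : F, w ^ 3 = 1 ∧ w ≠ 1 ∧ w ^ 2 ≠ 1 ∧ w ^ 2 + w + 1 = 0 := by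
  classical
  obtain ⟨w, hw⟩ : ∃ w : F, w ∉ ({0, 1} : Finset F) := by
    by_contra h
    push Not at h
    have h1 := Finset.card_le_card (s := (Finset.univ : Finset F)) fun x _ => h x
    rw [Finset.card_univ, hF] at h1
    have := Finset.card_le_two (a := (0 : F)) (b := 1)
    omega
  simp only [Finset.mem_insert, Finset.mem_singleton, not_or] at hw
  have h3 := cube hF hw.1
  refine ⟨w, h3, hw.2, fun h2 => hw.2 ?_, ?_⟩
  · linear_combination h3 - w * h2
  · have : (w - 1) * (w ^ 2 + w + 1) = 0 := by linear_combination h3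
    exact (mul_eq_zero.1 this).resolve_left (sub_ne_zero.2 hw.2)

theorem mem_omega {w : F} (hw : w ^ 2 + w + 1 = 0) {x : F} (hx : x ≠ 0) :
    x = 1 ∨ x = w ∨ x = w ^ 2 := by
  have h : (x - 1) * ((x - w) * (x - w ^ 2)) = 0 := by
    linear_combination cube hF hx + (-x ^ 2 + w * x - w + 1) * hw
  rcases mul_eq_zero.1 h with h | h
  · exact Or.inl (sub_eq_zero.1 h)
  rcases mul_eq_zero.1 h with h | h
  · exact Or.inr (Or.inl (sub_eq_zero.1 h))
  · exact Or.inr (Or.inr (sub_eq_zero.1 h))

/-- The form counts the support modulo two. -/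
theorem h_weight (v : Fin n → F) [DecidablePred fun i => v i ≠ 0] :
    hermForm n F 2 v v = ((Finset.univ.filter fun i => v i ≠ 0).card : F) := by
  have : ∀ i, v i * v i ^ 2 = if v i ≠ 0 then 1 else 0 := fun i => by
    split_ifs with h
    · rw [← pow_succ']; exact cube hF h
    · rw [not_not.1 h, zero_mul]
  simp only [hermForm, this, Finset.sum_boole]

theorem unit_ne_zero {v : Fin n → F} (hv : hermForm n F 2 v v = 1) : v ≠ 0 := by
  rintro rfl
  rw [h_zero_left] at hv
  exact zero_ne_one hv

/-- A unit vector supported on two coordinates has one non-zero coordinate. -/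
theorem unit_pair {i j : Fin n} {v : Fin n → F} (hs : Supp {i, j} v)
    (hv : hermForm n F 2 v v = 1) : v = v i • δ i ∧ v i ≠ 0 ∨ v = v j • δ j ∧ v j ≠ 0 := by
  by_cases hij : i = j
  · subst hij
    have e : v = v i • δ i := funext fun x => by
      by_cases hx : x = i
      · subst hx; simp
      · rw [hs x (by simp [hx])]; simp [hx]
    exact Or.inl ⟨e, fun h => unit_ne_zero hF hv (by rw [e, h, zero_smul])⟩
  have e := supp_pair hij hs
  rw [h_pair hF hij hs] at hv
  by_cases h1 : v i = 0
  · refine Or.inr ⟨by rw [h1, zero_smul, zero_add] at e; exact e, fun h2 => ?_⟩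
    simp [h1, h2] at hv
  · refine Or.inl ⟨?_, h1⟩
    have h2 : v j = 0 := by
      by_contra h2
      rw [cube hF h1, cube hF h2] at hv
      exact one_ne_zero (by linear_combination hv : (1 : F) = 0)
    rw [h2, zero_smul, add_zero] at e
    exact e

/-- Columns of isometries are units. -/
theorem col_unit (g : SU n F 2) (i : Fin n) :
    hermForm n F 2 (suMat g *ᵥ δ i) (suMat g *ᵥ δ i) = 1 := by
  rw [suMat_h, h_single_single hF, if_pos rfl]

theorem col_ne_zero (g : SU n F 2) (i : Fin n) : suMat g *ᵥ δ i ≠ 0 :=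
  unit_ne_zero hF (col_unit hF g i)

theorem diag_isIso {c : Fin n → F} (hc : ∀ i, c i ^ 3 = 1) : IsIso 2 (diagonal c) := fun u v => by
  refine Finset.sum_congr rfl fun i _ => ?_
  rw [mulVec_diagonal, mulVec_diagonal]
  linear_combination (u i * v i ^ 2) * hc i

omit hF in
/-- Being the diagonal matrix of `c`. -/
def IsDg (g : SU n F 2) (c : Fin n → F) : Prop := suMat g = diagonal c

theorem exists_isDg {c : Fin n → F} (hc : ∀ i, c i ^ 3 = 1) (hp : ∏ i, c i = 1) :
    ∃ g : SU n F 2, IsDg g c :=
  ⟨mkSU (diagonal c) (diag_isIso hF hc) (by rw [det_diagonal, hp]), rfl⟩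

theorem IsDg.mulVec {g : SU n F 2} {c : Fin n → F} (h : IsDg g c) (i : Fin n) :
    suMat g *ᵥ δ i = c i • δ i := by
  rw [show suMat g = diagonal c from h, diagonal_mulVec_single, mul_one, ← Pi.single_smul,
    smul_eq_mul, mul_one]

theorem isDg_of_mulVec {g : SU n F 2} {c : Fin n → F} (h : ∀ i, suMat g *ᵥ δ i = c i • δ i) :
    IsDg g c :=
  Matrix.ext_of_mulVec_single fun i => by
    rw [show suMat g *ᵥ Pi.single i 1 = c i • δ i from h i, diagonal_mulVec_single, mul_one,
      ← Pi.single_smul, smul_eq_mul, mul_one]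

theorem IsDg.cube {g : SU n F 2} {c : Fin n → F} (h : IsDg g c) (i : Fin n) : c i ^ 3 = 1 :=
  H42.Phan.cube hF fun e => col_ne_zero hF g i (by rw [h.mulVec hF, e, zero_smul])

theorem IsDg.prod {g : SU n F 2} {c : Fin n → F} (h : IsDg g c) : ∏ i, c i = 1 := by
  have h1 : (suMat g).det = 1 := g.1.2
  rwa [show suMat g = diagonal c from h, det_diagonal] at h1

theorem IsDg.unique {g g' : SU n F 2} {c : Fin n → F} (h : IsDg g c) (h' : IsDg g' c) : g = g' :=
  SU_ext (h.trans h'.symm)

theorem IsDg.mul {g g' : SU n F 2} {c c' : Fin n → F} (h : IsDg g c) (h' : IsDg g' c') :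
    IsDg (g * g') (c * c') := by
  show suMat (g * g') = _
  rw [suMat_mul, show suMat g = diagonal c from h, show suMat g' = diagonal c' from h',
    diagonal_mul_diagonal]
  rfl

theorem isDg_one : IsDg (1 : SU n F 2) 1 := suMat_one.trans diagonal_one.symm

theorem IsDg.inj {g : SU n F 2} {c c' : Fin n → F} (h : IsDg g c) (h' : IsDg g c') : c = c' :=
  diagonal_injective (h.symm.trans h')

theorem IsDg.commute {g g' : SU n F 2} {c c' : Fin n → F} (h : IsDg g c) (h' : IsDg g' c') :
    Commute g g' := IsDg.unique hF (h.mul hF h') (by rw [mul_comm c c']; exact h'.mul hF h)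

theorem IsDg.pow {g : SU n F 2} {c : Fin n → F} (h : IsDg g c) :
    ∀ k : ℕ, IsDg (g ^ k) (c ^ k)
  | 0 => by rw [pow_zero, pow_zero]; exact isDg_one hF
  | k + 1 => by rw [pow_succ, pow_succ]; exact (IsDg.pow h k).mul hF h

theorem IsDg.pow_three {g : SU n F 2} {c : Fin n → F} (h : IsDg g c) : g ^ 3 = 1 := by
  refine IsDg.unique hF ((h.pow hF 3).trans ?_) (isDg_one hF)
  exact congrArg diagonal (funext fun i => h.cube hF i)

/-- An element commuting with a diagonal one respects its eigenvalues. -/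
theorem apply_of_commute {g x : SU n F 2} {c : Fin n → F} (h : IsDg g c) (hx : Commute g x)
    {i j : Fin n} (hij : c i ≠ c j) : suMat x i j = 0 := by
  have e : suMat (g * x) = suMat (x * g) := by rw [hx.eq]
  rw [suMat_mul, suMat_mul, show suMat g = diagonal c from h] at e
  have e2 := congrFun (congrFun e i) j
  rw [diagonal_mul, mul_diagonal, mul_comm] at e2
  by_contra h0
  exact hij (mul_left_cancel₀ h0 e2)

theorem single_of_supp {v : Fin n → F} {i : Fin n} (h : Supp {i} v) : v = v i • δ i :=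
  funext fun x => by
    by_cases hx : x = i
    · subst hx; simp
    · rw [h x (by simp [hx])]; simp [hx]

theorem isDg_of_commute {g x : SU n F 2} {c : Fin n → F} (h : IsDg g c)
    (hinj : Function.Injective c) (hx : Commute g x) : IsDg x fun i => suMat x i i := by
  refine isDg_of_mulVec hF fun i => ?_
  refine (single_of_supp hF (i := i) fun j hj => ?_).trans (by rw [H41.Phan.single_mulVec])
  rw [H41.Phan.single_mulVec]
  exact apply_of_commute hF h hx (hinj.ne (by simpa using hj))

/-! ### Permutation matrices -/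

theorem perm_isIso (σ : Equiv.Perm (Fin n)) :
    IsIso 2 ((1 : Matrix (Fin n) (Fin n) F).submatrix σ.symm id) := fun u v => by
  have key : ∀ (w : Fin n → F) i,
      ((1 : Matrix (Fin n) (Fin n) F).submatrix σ.symm id *ᵥ w) i = w (σ.symm i) := fun w i => by
    simp [Matrix.mulVec, dotProduct, Matrix.one_apply]
  simp only [hermForm, key]
  exact Equiv.sum_comp σ.symm fun i => u i * v i ^ 2

theorem perm_det (σ : Equiv.Perm (Fin n)) :
    ((1 : Matrix (Fin n) (Fin n) F).submatrix σ.symm id).det = 1 := by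
  rw [det_permute, det_one, mul_one]
  rcases Int.units_eq_one_or (Equiv.Perm.sign σ.symm) with h | h <;> rw [h]
  · simp
  · simp [neg_self hF]

/-- The permutation of the coordinates by `σ`. -/
noncomputable def pm (σ : Equiv.Perm (Fin n)) : SU n F 2 :=
  mkSU _ (perm_isIso hF σ) (perm_det hF σ)

theorem pm_apply (σ : Equiv.Perm (Fin n)) (v : Fin n → F) (i : Fin n) :
    (suMat (pm hF σ) *ᵥ v) i = v (σ.symm i) := by
  show (((1 : Matrix (Fin n) (Fin n) F).submatrix σ.symm id) *ᵥ v) i = _
  simp [Matrix.mulVec, dotProduct, Matrix.one_apply]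

theorem pm_single (σ : Equiv.Perm (Fin n)) (i : Fin n) :
    suMat (pm hF σ) *ᵥ δ i = δ (σ i) := funext fun j => by
  rw [pm_apply hF]
  simp [δ, Pi.single_apply, Equiv.symm_apply_eq]

theorem pm_mul (σ τ : Equiv.Perm (Fin n)) : pm hF (σ * τ) = pm hF σ * pm hF τ :=
  suMat_ext fun v => funext fun i => by
    rw [suMat_mulVec_mul, pm_apply hF, pm_apply hF, pm_apply hF]
    rfl

theorem pm_one : pm hF (1 : Equiv.Perm (Fin n)) = 1 :=
  suMat_ext fun v => funext fun i => by rw [pm_apply hF, suMat_one, one_mulVec]; rfl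

theorem pm_inv (σ : Equiv.Perm (Fin n)) : (pm hF σ)⁻¹ = pm hF σ⁻¹ :=
  inv_eq_of_mul_eq_one_right (by rw [← pm_mul hF, mul_inv_cancel, pm_one hF])

theorem IsDg.conj_pm {g : SU n F 2} {c : Fin n → F} (h : IsDg g c) (σ : Equiv.Perm (Fin n)) :
    IsDg (pm hF σ * g * (pm hF σ)⁻¹) (c ∘ σ.symm) := by
  refine isDg_of_mulVec hF fun i => ?_
  rw [suMat_mulVec_mul, suMat_mulVec_mul, pm_inv hF, pm_single hF, h.mulVec hF, mulVec_smul,
    pm_single hF, ← Equiv.Perm.mul_apply, mul_inv_cancel, Equiv.Perm.one_apply]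
  rfl

/-! ### Diagonalisation -/

omit hF in
/-- The unit vectors outside `S` are eigenvectors. -/
def DiagOut (z : SU n F 2) (S : Finset (Fin n)) : Prop :=
  ∀ i, i ∉ S → ∃ c : F, suMat z *ᵥ δ i = c • δ i

theorem DiagOut.supp {z : SU n F 2} {S : Finset (Fin n)} (h : DiagOut z S) {v : Fin n → F}
    (hv : Supp S v) : Supp S (suMat z *ᵥ v) := fun j hj => by
  obtain ⟨c, hc⟩ := h j hj
  have hc0 : c ≠ 0 := fun e => col_ne_zero hF z j (by rw [hc, e, zero_smul])
  have e := suMat_h z v (δ j)
  rw [hc, h_smul_right hF, h_single_right hF, h_single_right hF, hv j hj] at e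
  exact (mul_eq_zero.1 e).resolve_left (pow_ne_zero _ hc0)

theorem diagonalise {z : SU n F 2} (hz : z ^ 3 = 1) :
    ∃ (g : SU n F 2) (c : Fin n → F), IsDg (g⁻¹ * z * g) c := by
  classical
  obtain ⟨w, hw3, hw1, hw21, hw⟩ := exists_omega hF
  suffices ∀ k (S : Finset (Fin n)) (z : SU n F 2), S.card = k → z ^ 3 = 1 → DiagOut z S →
      ∃ g : SU n F 2, DiagOut (g⁻¹ * z * g) ∅ by
    obtain ⟨g, hg⟩ := this _ Finset.univ z rfl hz fun i hi => absurd (Finset.mem_univ i) hi
    choose c hc using fun i => hg i (Finset.notMem_empty i)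
    exact ⟨g, c, isDg_of_mulVec hF hc⟩
  intro k
  induction k with
  | zero =>
    intro S z hS _ h
    exact ⟨1, by rw [inv_one, one_mul, mul_one]; rwa [Finset.card_eq_zero.1 hS] at h⟩
  | succ k ih =>
    intro S z hS hz h
    obtain ⟨i, hi⟩ := Finset.card_pos.1 (show 0 < S.card by omega)
    by_cases hk : k = 0
    · obtain ⟨a, rfl⟩ := Finset.card_eq_one.1 (show S.card = 1 by omega)
      refine ⟨1, fun j _ => ?_⟩
      rw [inv_one, one_mul, mul_one]
      by_cases hj : j ∈ ({a} : Finset (Fin n))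
      · rw [Finset.mem_singleton.1 hj]
        exact ⟨_, single_of_supp hF (h.supp hF (supp_single (Finset.mem_singleton_self a)))⟩
      · exact h j hj
    set u : Fin n → F := suMat z *ᵥ δ i with hu
    set u' : Fin n → F := suMat z *ᵥ u with hu'
    have hzu' : suMat z *ᵥ u' = δ i := by
      rw [hu', hu, ← suMat_mulVec_mul, ← suMat_mulVec_mul]
      rw [show z * z * z = z ^ 3 by rw [pow_succ, pow_two], hz, suMat_one, one_mulVec]
    set E : F → Fin n → F := fun l => δ i + l ^ 2 • u + l • u' with hE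
    have heig : ∀ l : F, l ^ 3 = 1 → suMat z *ᵥ E l = l • E l := fun l hl => by
      show suMat z *ᵥ (δ i + l ^ 2 • u + l • u') = _
      rw [mulVec_add, mulVec_add, mulVec_smul, mulVec_smul, ← hu, ← hu', hzu', hE]
      funext x
      simp only [Pi.add_apply, Pi.smul_apply, smul_eq_mul]
      linear_combination (-(u x)) * hl
    have horth : ∀ l m : F, l ^ 3 = 1 → m ^ 3 = 1 → l ≠ m →
        hermForm n F 2 (E l) (E m) = 0 := fun l m hl hm hlm => by
      have e := suMat_h z (E l) (E m)
      rw [heig l hl, heig m hm, h_smul_left, h_smul_right hF, ← mul_assoc] at e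
      by_contra h0
      have e1 : l * m ^ 2 = 1 := mul_right_cancel₀ h0 (by rw [one_mul]; exact e)
      exact hlm (by linear_combination (-l) * hm + m * e1)
    have hw23 : (w ^ 2) ^ 3 = 1 := by rw [← pow_mul, mul_comm, pow_mul, hw3, one_pow]
    have hsum : E 1 + E w + E (w ^ 2) = δ i := by
      funext x
      simp only [hE, Pi.add_apply, Pi.smul_apply, smul_eq_mul]
      linear_combination (u x) * hw + (w * u x) * hw3 + (u' x) * hw + (δ i x) * two_zero hF
    obtain ⟨l, hl, hll⟩ : ∃ l : F, l ^ 3 = 1 ∧ hermForm n F 2 (E l) (E l) = 1 := by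
      by_contra hno
      push Not at hno
      have hz0 : ∀ l : F, l ^ 3 = 1 → hermForm n F 2 (E l) (E l) = 0 := fun l hl => by
        have e := h_self_fixed hF (E l)
        have : hermForm n F 2 (E l) (E l) * (hermForm n F 2 (E l) (E l) - 1) = 0 := by
          linear_combination e
        exact (mul_eq_zero.1 this).resolve_right (sub_ne_zero.2 (hno l hl))
      have hn1 : w ≠ w ^ 2 := fun e => hw21 (by linear_combination hw3 + w * e)
      have e1 : hermForm n F 2 (δ i : Fin n → F) (δ i) = 1 := by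
        rw [h_single_single hF, if_pos rfl]
      rw [← hsum] at e1
      simp only [h_add_left, h_add_right hF, hz0 1 (one_pow 3), hz0 w hw3, hz0 _ hw23,
        horth 1 w (one_pow 3) hw3 (Ne.symm hw1), horth w 1 hw3 (one_pow 3) hw1,
        horth 1 _ (one_pow 3) hw23 (Ne.symm hw21), horth _ 1 hw23 (one_pow 3) hw21,
        horth w _ hw3 hw23 hn1, horth _ w hw23 hw3 hn1.symm, add_zero] at e1
      exact zero_ne_one e1
    have hus : Supp S u := h.supp hF (supp_single hi)
    have hEs : Supp S (E l) :=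
      ((supp_single hi).add (hus.smul _)).add ((h.supp hF hus).smul _)
    obtain ⟨g, hg, hgi⟩ := trans_ni hF (show 2 ≤ S.card by omega) (supp_single hi) hEs
      (by rw [h_single_single hF, if_pos rfl, hll])
      (by rw [h_single_single hF, if_pos rfl]; exact one_ne_zero)
    have hd : DiagOut (g⁻¹ * z * g) (S.erase i) := fun j hj => by
      rw [Finset.mem_erase, not_and_or, not_not] at hj
      rcases hj with rfl | hj
      · refine ⟨l, ?_⟩
        rw [suMat_mulVec_mul, suMat_mulVec_mul, hgi, heig l hl, mulVec_smul, ← hgi,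
          suMat_inv_mulVec]
      · obtain ⟨c, hc⟩ := h j hj
        refine ⟨c, ?_⟩
        rw [suMat_mulVec_mul, suMat_mulVec_mul, hg j hj, hc, mulVec_smul,
          suMat_inv_fix (hg j hj)]
    obtain ⟨g', hg'⟩ := ih (S.erase i) (g⁻¹ * z * g)
      (by rw [Finset.card_erase_of_mem hi]; omega)
      (by rw [show (g⁻¹ * z * g) ^ 3 = g⁻¹ * z ^ 3 * g by simp [pow_succ, mul_assoc], hz, mul_one, inv_mul_cancel]) hd
    refine ⟨g * g', ?_⟩
    rwa [show (g * g')⁻¹ * z * (g * g') = g'⁻¹ * (g⁻¹ * z * g) * g' by group]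

end H42.Phan
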