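import Cfsg.Agent.H42.Phan.TwoChain

/-!
Assembly of the chain of standard pairs over the field of four elements.
-/

set_option autoImplicit false
set_option linter.unusedSectionVars false

namespace H42.Phan

open Matrix Cfsg H50 H69.SUW H41.Phan

universe u v

section Shift

variable {k N : ℕ}

/-- The coordinates `a, …, a + k - 1` as an embedding. -/
def shiftEmb (a : ℕ) (h : a + k ≤ N) : Fin k ↪ Fin N :=
  ⟨fun i => ⟨a + i.1, by omega⟩, fun i j e => Fin.ext (by simpa using congrArg Fin.val e)⟩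

theorem map_shiftEmb {a : ℕ} (h : a + k ≤ N) (S : Finset (Fin k)) (lo hi : ℕ)
    (hS : ∀ i : Fin k, i ∈ S ↔ lo ≤ i.1 ∧ i.1 < hi) (hhi : hi ≤ k) :
    S.map (shiftEmb a h) = seg N (a + lo) (a + hi) := by
  ext x
  rw [Finset.mem_map, mem_seg]
  constructor
  · rintro ⟨i, hi', rfl⟩
    have := (hS i).1 hi'
    show a + lo ≤ a + i.1 ∧ a + i.1 < a + hi
    omega
  · intro hx
    exact ⟨⟨x.1 - a, by omega⟩, (hS _).2 (by show lo ≤ x.1 - a ∧ x.1 - a < hi; omega),
      Fin.ext (by show a + (x.1 - a) = x.1; omega)⟩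

end Shift

variable {F : Type u} [Field F] [Fintype F] {k l m n N : ℕ} (hF : Fintype.card F = 2 ^ 2)
include hF

theorem emb_trans (f : Fin l ↪ Fin m) (g : Fin m ↪ Fin n) (x : SU l F 2) :
    emb hF g (emb hF f x) = emb hF (f.trans g) x := by
  refine SU_ext (Matrix.ext fun i j => ?_)
  show suMat _ i j = suMat _ i j
  by_cases hi : i ∈ Set.range g
  · obtain ⟨p, rfl⟩ := hi
    by_cases hj : j ∈ Set.range g
    · obtain ⟨q, rfl⟩ := hj
      rw [emb_apply hF]
      by_cases hp : p ∈ Set.range f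
      · obtain ⟨p', rfl⟩ := hp
        by_cases hq : q ∈ Set.range f
        · obtain ⟨q', rfl⟩ := hq
          rw [emb_apply hF]
          exact (emb_apply hF (f.trans g) x p' q').symm
        · rw [emb_apply_right hF f x _ hq, emb_apply_right hF (f.trans g) x _
            (fun ⟨s, hs⟩ => hq ⟨s, g.injective hs⟩)]
          simp [Matrix.one_apply, g.injective.eq_iff]
      · rw [emb_apply_left hF f x hp, emb_apply_left hF (f.trans g) x
          (fun ⟨s, hs⟩ => hp ⟨s, g.injective hs⟩)]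
        simp [Matrix.one_apply, g.injective.eq_iff]
    · rw [emb_apply_right hF g _ _ hj, emb_apply_right hF (f.trans g) x _
        (fun ⟨s, hs⟩ => hj ⟨f s, hs⟩)]
  · rw [emb_apply_left hF g _ hi, emb_apply_left hF (f.trans g) x
      (fun ⟨s, hs⟩ => hi ⟨f s, hs⟩)]

theorem exists_winHom {a : ℕ} (h : a + k ≤ N) :
    ∃ r : Win F 2 (seg N a (a + k)) →* SU k F 2, ∀ g, emb hF (shiftEmb a h) (r g) = g.1 := by
  have e : (Finset.univ : Finset (Fin k)).map (shiftEmb a h) = seg N a (a + k) := by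
    simpa using map_shiftEmb h Finset.univ 0 k (fun i => by simp) le_rfl
  exact lift_hom hF (emb hF (shiftEmb a h)) (emb_injective hF _) (Win F 2 (seg N a (a + k))).subtype
    (by rw [Subgroup.range_subtype, emb_range hF, e])

/-- The chain. -/
theorem chain {Γ : Type v} [Group Γ] (n : ℕ) (hn : 4 ≤ n) (U V : ℕ → Subgroup Γ)
    (hU : ∀ i, i < n → U i ≠ ⊥) (h1 : ∀ i j, i + 2 ≤ j → j < n → ∀ x ∈ U i, ∀ y ∈ U j, x * y = y * x)
    (h2 : ∀ i, i + 1 < n → IsStandardUnitaryPair (V i) (U i) (U (i + 1)) F 2)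
    (hgen : ∀ H : Subgroup Γ, (∀ i, i + 1 < n → V i ≤ H) → (∀ i, i < n → U i ≤ H) → H = ⊤)
    (h4 : ∀ i, i + 2 < n → ∃ g : SU 4 F 2 →* Γ, g.range = V i ⊔ V (i + 1))
    (h5 : ∀ i j, i < n → j + 1 < n → (i + 2 ≤ j ∨ j + 3 ≤ i) → ∀ x ∈ U i, ∀ y ∈ V j, x * y = y * x)
    (h6 : ∀ i k, i + 3 ≤ k → k + 1 < n → ∀ x ∈ V i, ∀ y ∈ V k, x * y = y * x) :
    ∃ f : SU (n + 1) F 2 →* Γ, Function.Surjective f := by
  classical
  have hstd : ∀ i, i + 1 < n → ∃ φ, Std (F := F) (V i) (U i) (U (i + 1)) φ := by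
    intro i hi
    by_cases h : i + 2 < n
    · exact std_inj hF (h2 i hi) (h2 (i + 1) h) (Or.inl ⟨rfl, h1 i (i + 2) le_rfl h⟩)
    · refine std_inj hF (h2 i hi) (h2 (i - 1) (by omega))
        (Or.inr ⟨by rw [show i - 1 + 1 = i by omega], h1 (i - 1) (i + 1) (by omega) hi⟩)
  have hstep : ∀ i (ψ : SU 3 F 2 →* Γ), i + 2 < n → Std (V i) (U i) (U (i + 1)) ψ →
      ∃ Q : SU 4 F 2 →* Γ, Q.comp (emb hF embL) = ψ ∧
        Std (V (i + 1)) (U (i + 1)) (U (i + 2)) (Q.comp (emb hF embR)) := by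
    intro i ψ hi hψ
    obtain ⟨φ, hφ⟩ := hstd (i + 1) hi
    obtain ⟨g, hg⟩ := h4 i hi
    refine next hF hψ hφ (h1 i (i + 2) le_rfl hi) g (four_inj hF g ?_) hg
    intro e
    refine hU i (by omega) (eq_bot_iff.2 ?_)
    rw [← e, hg]
    refine le_trans ?_ le_sup_left
    rw [← hψ.left, ← hψ.range_eq]
    exact Subgroup.map_le_range _ _
  obtain ⟨φ₀, hφ₀⟩ := hstd 0 (by omega)
  let nxt : ℕ → (SU 3 F 2 →* Γ) → (SU 3 F 2 →* Γ) := fun i ψ =>
    if h : i + 2 < n ∧ Std (V i) (U i) (U (i + 1)) ψ then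
      (Classical.choose (hstep i ψ h.1 h.2)).comp (emb hF embR) else ψ
  let seq : ℕ → (SU 3 F 2 →* Γ) := fun i => Nat.rec φ₀ nxt i
  have hseq : ∀ i, i + 1 < n → Std (V i) (U i) (U (i + 1)) (seq i) := by
    intro i
    induction i with
    | zero => exact fun _ => hφ₀
    | succ i ih =>
      intro hi
      have hc : i + 2 < n ∧ Std (V i) (U i) (U (i + 1)) (seq i) := ⟨hi, ih (by omega)⟩
      show Std _ _ _ (nxt i (seq i))
      simp only [nxt, dif_pos hc]
      exact (Classical.choose_spec (hstep i (seq i) hc.1 hc.2)).2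
  have hQ : ∀ i, i + 2 < n → ∃ Q : SU 4 F 2 →* Γ,
      Q.comp (emb hF embL) = seq i ∧ Q.comp (emb hF embR) = seq (i + 1) := by
    intro i hi
    have hc : i + 2 < n ∧ Std (V i) (U i) (U (i + 1)) (seq i) := ⟨hi, hseq i (by omega)⟩
    refine ⟨Classical.choose (hstep i (seq i) hc.1 hc.2),
      (Classical.choose_spec (hstep i (seq i) hc.1 hc.2)).1, ?_⟩
    show _ = nxt i (seq i)
    simp only [nxt, dif_pos hc]
  choose r hr using fun a (h : a + 3 ≤ n + 1) => exists_winHom (N := n + 1) (k := 3) (a := a) hF h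
  let Ψ : ∀ a : ℕ, Win F 2 (seg (n + 1) a (a + 3)) →* Γ := fun a =>
    if h : a + 3 ≤ n + 1 then (seq a).comp (r a h) else 1
  have hΨ : ∀ a (h : a + 3 ≤ n + 1) g, Ψ a g = seq a (r a h g) := fun a h g => by
    simp only [Ψ, dif_pos h, MonoidHom.comp_apply]
  have sub : ∀ a (h : a + 3 ≤ n + 1) (g : Win F 2 (seg (n + 1) a (a + 3))) (S : Finset (Fin 3))
      (lo hi : ℕ), (∀ i : Fin 3, i ∈ S ↔ lo ≤ i.1 ∧ i.1 < hi) → hi ≤ 3 →
      g.1 ∈ Win F 2 (seg (n + 1) (a + lo) (a + hi)) → Ψ a g ∈ (Win F 2 S).map (seq a) := by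
    intro a h g S lo hi hS hhi hg
    rw [hΨ a h]
    refine Subgroup.mem_map_of_mem _ ?_
    rw [← emb_mem_iff hF (shiftEmb a h), map_shiftEmb h S lo hi hS hhi, hr]
    exact hg
  have inV : ∀ a (h : a + 3 ≤ n + 1) g, Ψ a g ∈ V a := fun a h g => by
    rw [hΨ a h, ← (hseq a (by omega)).range_eq]
    exact ⟨_, rfl⟩
  have inL : ∀ a (h : a + 3 ≤ n + 1) (g : Win F 2 (seg (n + 1) a (a + 3))),
      g.1 ∈ Win F 2 (seg (n + 1) a (a + 2)) → Ψ a g ∈ U a := fun a h g hg => by
    rw [← (hseq a (by omega)).left]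
    exact sub a h g _ 0 2 (by decide) (by norm_num) hg
  have inR : ∀ a (h : a + 3 ≤ n + 1) (g : Win F 2 (seg (n + 1) a (a + 3))),
      g.1 ∈ Win F 2 (seg (n + 1) (a + 1) (a + 3)) → Ψ a g ∈ U (a + 1) := fun a h g hg => by
    rw [← (hseq a (by omega)).right]
    exact sub a h g _ 1 3 (by decide) (by norm_num) hg
  refine build hF (by omega) Ψ (fun H hH => ?_) ?_ (fun a ha => ?_)
  · have hV : ∀ i, i + 1 < n → V i ≤ H := fun i hi => by
      rw [← (hseq i hi).range_eq]
      rintro _ ⟨x, rfl⟩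
      refine hH i (by omega) ⟨⟨emb hF (shiftEmb i (show i + 3 ≤ n + 1 by omega)) x, ?_⟩, ?_⟩
      · have e : (Finset.univ : Finset (Fin 3)).map (shiftEmb i (show i + 3 ≤ n + 1 by omega)) =
            seg (n + 1) i (i + 3) := by simpa using map_shiftEmb _ Finset.univ 0 3 (by simp) le_rfl
        rw [← e, ← emb_range hF]
        exact ⟨x, rfl⟩
      · rw [hΨ i (by omega)]
        congr 1
        exact emb_injective hF _ (hr i _ _)
    refine hgen H hV fun i hi => ?_
    by_cases h : i + 1 < n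
    · refine le_trans ?_ (hV i h)
      rw [← (hseq i h).left, ← (hseq i h).range_eq]
      exact Subgroup.map_le_range _ _
    · have hs := hseq (i - 1) (by omega)
      refine le_trans ?_ (hV (i - 1) (by omega))
      rw [← hs.range_eq]
      conv_lhs => rw [show i = i - 1 + 1 by omega, ← hs.right]
      exact Subgroup.map_le_range _ _
  · intro a b c ha hb g g' hg hg'
    have hg2 : g.1 ∈ Win F 2 (seg (n + 1) a (min (a + 3) c)) :=
      win_mono (fun x hx => by simp only [Finset.mem_inter, mem_seg] at hx ⊢; omega) (win_inter g.2 hg)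
    have hg2' : g'.1 ∈ Win F 2 (seg (n + 1) (max b c) (b + 3)) :=
      win_mono (fun x hx => by simp only [Finset.mem_inter, mem_seg] at hx ⊢; omega)
        (win_inter g'.2 hg')
    have triv : ∀ (a : ℕ) (g : Win F 2 (seg (n + 1) a (a + 3))) (lo hi : ℕ), hi ≤ lo + 1 →
        hi ≤ n + 1 → g.1 ∈ Win F 2 (seg (n + 1) lo hi) → Ψ a g = 1 := fun a g lo hi h h' hg => by
      have : g = 1 := Subtype.ext (win_trivial hF (by rw [seg_card h']; omega) hg)
      rw [this, map_one]
    by_cases hc1 : c ≤ a + 1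
    · rw [triv a g a _ (by omega) (by omega) hg2]
      exact Commute.one_left _
    by_cases hc2 : b + 2 ≤ c
    · rw [triv b g' _ (b + 3) (by omega) (by omega) hg2']
      exact Commute.one_right _
    by_cases hA : c = a + 2
    · have hgU : Ψ a g ∈ U a := inL a ha g (win_mono (seg_mono le_rfl (by omega)) hg2)
      by_cases hB : c = b + 1
      · exact h1 a (b + 1) (by omega) (by omega) _ hgU _
          (inR b hb g' (win_mono (seg_mono (by omega) le_rfl) hg2'))
      · exact h5 a b (by omega) (by omega) (Or.inl (by omega)) _ hgU _ (inV b hb g')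
    · by_cases hB : c = b + 1
      · exact (h5 (b + 1) a (by omega) (by omega) (Or.inr (by omega)) _
          (inR b hb g' (win_mono (seg_mono (by omega) le_rfl) hg2')) _ (inV a ha g)).symm
      · exact h6 a b (by omega) (by omega) _ (inV a ha g) _ (inV b hb g')
  · obtain ⟨Q, hL, hR⟩ := hQ a (by omega)
    obtain ⟨r4, hr4⟩ := exists_winHom (N := n + 1) (k := 4) (a := a) hF ha
    refine ⟨Q.comp r4, fun g h h' => ?_, fun g h h' => ?_⟩
    · rw [MonoidHom.comp_apply, hΨ a (by omega), ← hL, MonoidHom.comp_apply]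
      congr 1
      refine emb_injective hF (shiftEmb a ha) ((hr4 _).trans ?_)
      rw [emb_trans hF, show embL.trans (shiftEmb a ha) = shiftEmb a (show a + 3 ≤ n + 1 by omega)
        from Function.Embedding.ext fun i => Fin.ext rfl]
      exact (hr a _ ⟨g, h⟩).symm
    · rw [MonoidHom.comp_apply, hΨ (a + 1) (by omega), ← hR, MonoidHom.comp_apply]
      congr 1
      refine emb_injective hF (shiftEmb a ha) ((hr4 _).trans ?_)
      rw [emb_trans hF, show embR.trans (shiftEmb a ha) =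
          shiftEmb (a + 1) (show a + 1 + 3 ≤ n + 1 by omega)
        from Function.Embedding.ext fun i => Fin.ext (by
          show a + (i.1 + 1) = a + 1 + i.1
          omega)]
      exact (hr (a + 1) _ ⟨g, h⟩).symm

end H42.Phan
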