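import Cfsg.Agent.H42.Phan.TwoStep
import Cfsg.Agent.H41.Phan.Build

/-!
Groups with a weak Phan system over the field of four elements are images of special unitary groups.
-/

set_option autoImplicit false
set_option linter.unusedSectionVars false

namespace H42.Phan

open Matrix Cfsg H50 H69.SUW H41.Phan

universe u v

variable {F : Type u} [Field F] [Fintype F] {l m n N : ℕ} (hF : Fintype.card F = 2 ^ 2)
include hF

theorem scalar_trivial_four {g : SU 4 F 2} {x : F} (hx : suMat g = x • 1) : g = 1 := by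
  have hd : IsDg g fun _ => x := by
    show suMat g = _
    rw [hx]; ext i j
    simp [Matrix.one_apply, diagonal_apply]
  have h := hd.prod hF
  rw [Fin.prod_univ_four, hd.cube hF 0 |> fun e => show x * x * x = 1 by linear_combination e,
    one_mul] at h
  exact IsDg.unique hF hd ((isDg_one hF).trans (congrArg diagonal (funext fun _ => h.symm)))

/-- A non-trivial homomorphism of `SU_4(2)` is injective. -/
theorem four_inj {Γ : Type v} [Group Γ] (g : SU 4 F 2 →* Γ) (hne : g.range ≠ ⊥) :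
    Function.Injective g := by
  rw [← MonoidHom.ker_eq_bot_iff]
  rcases normal_le_center_or_eq_top hF (show 3 ≤ 4 by norm_num) (by norm_num) g.ker with h | h
  · rw [Subgroup.eq_bot_iff_forall]
    intro x hx
    obtain ⟨c, hc⟩ := (mem_center_iff_scalar hF (show 2 ≤ 4 by norm_num)).1 (h hx)
    exact scalar_trivial_four hF hc
  · exact absurd (by rw [MonoidHom.range_eq_bot_iff]; exact MonoidHom.ker_eq_top_iff.1 h) hne

theorem su2_nontrivial : ∃ x : SU 2 F 2, x ≠ 1 :=
  ⟨pm hF (Equiv.swap 0 1), fun h => by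
    have e := congrArg (fun y : SU 2 F 2 => (suMat y *ᵥ δ 0) 1) h
    simp [pm_single hF, suMat_one, δ] at e⟩

theorem std_hom {Γ : Type v} [Group Γ] {V A B : Subgroup Γ}
    (h : IsStandardUnitaryPair V A B F 2) :
    ∃ φ : SU 3 F 2 →* Γ, φ.range = V ∧ (Win F 2 ({0, 1} : Finset (Fin 3))).map φ = A ∧
      (Win F 2 ({1, 2} : Finset (Fin 3))).map φ = B ∧ φ.ker ≤ Subgroup.center _ ∧
      (Function.Injective φ ∨ Subgroup.center _ ≤ φ.ker) := by
  rcases h with ⟨ψ, ha, hb⟩ | ⟨ψ, ha, hb⟩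
  · refine ⟨V.subtype.comp ψ.toMonoidHom, ?_, ?_, ?_, ?_, Or.inl ?_⟩
    · rw [MonoidHom.range_comp, MonoidHom.range_eq_top.2 ψ.surjective, ← MonoidHom.range_eq_map,
        Subgroup.range_subtype]
    · rw [← suBlock_eq hF, Finset.coe_pair]; exact ha
    · rw [← suBlock_eq hF, Finset.coe_pair]; exact hb
    · intro x hx
      have : x = 1 := ψ.injective (V.subtype_injective (hx.trans (by simp)))
      rw [this]; exact one_mem _
    · exact V.subtype_injective.comp ψ.injective
  · refine ⟨V.subtype.comp (ψ.toMonoidHom.comp (QuotientGroup.mk' _)), ?_, ?_, ?_, ?_, Or.inr ?_⟩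
    · rw [MonoidHom.range_comp, MonoidHom.range_eq_top.2
        (ψ.surjective.comp (QuotientGroup.mk'_surjective _)), ← MonoidHom.range_eq_map,
        Subgroup.range_subtype]
    · rw [← suBlock_eq hF, Finset.coe_pair]; exact ha
    · rw [← suBlock_eq hF, Finset.coe_pair]; exact hb
    · intro x hx
      exact (QuotientGroup.eq_one_iff x).1 (ψ.injective (V.subtype_injective (hx.trans (by simp))))
    · intro x hx
      show (ψ (QuotientGroup.mk x) : Γ) = 1
      rw [(QuotientGroup.eq_one_iff x).2 hx, map_one, OneMemClass.coe_one]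

/-- The elements of exponent three of a pair of coordinates are diagonal. -/
theorem cubic_pair {i j : Fin n} (hij : i ≠ j) {y : SU n F 2} (hy : y ∈ Win F 2 {i, j})
    (hy3 : y ^ 3 = 1) : suMat y *ᵥ δ i = (suMat y *ᵥ δ i) i • δ i := by
  rcases unit_pair hF (supp_image hF hy (supp_single (by simp))) (col_unit hF y i) with ⟨e, -⟩ | ⟨e, h0⟩
  · exact e
  exfalso
  set d := (suMat y *ᵥ δ i) j with hd
  clear_value d
  have h1 : suMat (y ^ 3) *ᵥ δ i = δ i := by rw [hy3, suMat_one, one_mulVec]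
  rcases unit_pair hF (supp_image hF hy (supp_single (show j ∈ ({i, j} : Finset (Fin n)) by simp)))
      (col_unit hF y j) with ⟨e', h0'⟩ | ⟨e', h0'⟩
  · set d' := (suMat y *ᵥ δ j) i with hd'
    clear_value d'
    simp only [pow_succ, pow_zero, one_mul, suMat_mulVec_mul, e, e', mulVec_smul, smul_smul] at h1
    have h2 := congrFun h1 i
    simp [δ, hij] at h2
  · set d' := (suMat y *ᵥ δ j) j with hd'
    clear_value d'
    have h2 := suMat_h y (δ i) (δ j)
    rw [e, e', h_smul_left, h_smul_right hF, h_single_single hF, if_pos rfl, mul_one,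
      h_single_single hF, if_neg hij] at h2
    exact mul_ne_zero h0 (pow_ne_zero _ h0') h2

theorem isDg_of_pair {y : SU 3 F 2} {i j r : Fin 3} (hij : i ≠ j) (hr : r ∉ ({i, j} : Finset (Fin 3)))
    (hcov : ∀ x, x = i ∨ x = j ∨ x = r) (hy : y ∈ Win F 2 {i, j}) (hy3 : y ^ 3 = 1) :
    ∃ c : Fin 3 → F, IsDg y c ∧ c r = 1 := by
  refine ⟨fun x => if x = r then 1 else suMat y x x, isDg_of_mulVec hF fun x => ?_, if_pos rfl⟩
  by_cases hx : x = r
  · rw [if_pos hx, one_smul, hx]; exact hy r hr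
  rw [if_neg hx, ← H41.Phan.single_mulVec]
  rcases hcov x with rfl | rfl | rfl
  · exact cubic_pair hF hij hy hy3
  · rw [Finset.pair_comm] at hy
    exact cubic_pair hF (Ne.symm hij) hy hy3
  · exact absurd rfl hx

theorem third_point : ∀ i j : Fin 3, ∃ t : Fin 3, t ≠ i ∧ t ≠ j := by decide

theorem pair_six {i j : Fin n} (hij : i ≠ j) {y : SU n F 2} (hy : y ∈ Win F 2 {i, j}) :
    (y ^ 2) ^ 3 = 1 := by
  have key : ∀ p q : Fin n, p ∈ ({i, j} : Finset (Fin n)) → q ∈ ({i, j} : Finset (Fin n)) →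
      ({p, q} : Finset (Fin n)) = {i, j} → ∃ c : F, c ^ 3 = 1 ∧ suMat (y ^ 2) *ᵥ δ p = c • δ p := by
    intro p q hp hq hpq
    rcases unit_pair hF (supp_image hF hy (supp_single hp) |> fun h => hpq.symm ▸ h)
        (col_unit hF y p) with ⟨e, h0⟩ | ⟨e, h0⟩
    · set d := (suMat y *ᵥ δ p) p with hd
      clear_value d
      exact ⟨d * d, by rw [mul_pow, H42.Phan.cube hF h0, one_mul], by
        rw [pow_two, suMat_mulVec_mul, e, mulVec_smul, e, smul_smul]⟩
    · set d := (suMat y *ᵥ δ p) q with hd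
      clear_value d
      rcases unit_pair hF (supp_image hF hy (supp_single hq) |> fun h => hpq.symm ▸ h)
          (col_unit hF y q) with ⟨e', h0'⟩ | ⟨e', h0'⟩
      · set d' := (suMat y *ᵥ δ q) p with hd'
        clear_value d'
        exact ⟨d * d', by rw [mul_pow, H42.Phan.cube hF h0, H42.Phan.cube hF h0', one_mul], by
          rw [pow_two, suMat_mulVec_mul, e, mulVec_smul, e', smul_smul]⟩
      · set d' := (suMat y *ᵥ δ q) q with hd'
        clear_value d'
        by_cases hpq' : p = q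
        · subst hpq'
          exact ⟨d * d, by rw [mul_pow, H42.Phan.cube hF h0, one_mul], by
            rw [pow_two, suMat_mulVec_mul, e, mulVec_smul, e, smul_smul]⟩
        exfalso
        have h2 := suMat_h y (δ p) (δ q)
        rw [e, e', h_smul_left, h_smul_right hF, h_single_single hF, if_pos rfl, mul_one,
          h_single_single hF, if_neg hpq'] at h2
        exact mul_ne_zero h0 (pow_ne_zero _ h0') h2
  have hfix : ∀ p, ∃ c : F, c ^ 3 = 1 ∧ suMat (y ^ 2) *ᵥ δ p = c • δ p := fun p => by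
    by_cases h1 : p = i
    · exact h1 ▸ key i j (by simp) (by simp) rfl
    by_cases h2 : p = j
    · exact h2 ▸ key j i (by simp) (by simp) (Finset.pair_comm j i)
    refine ⟨1, one_pow 3, ?_⟩
    rw [one_smul]
    exact pow_mem hy 2 p (by simp [h1, h2])
  choose c hc3 hc using hfix
  exact (isDg_of_mulVec hF hc).pow_three hF

theorem swap_mem (i j : Fin n) : pm hF (Equiv.swap i j) ∈ Win F 2 ({i, j} : Finset (Fin n)) :=
  fun x hx => by
    simp only [Finset.mem_insert, Finset.mem_singleton, not_or] at hx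
    rw [pm_single hF, Equiv.swap_apply_of_ne_of_ne hx.1 hx.2]

/-- A standard pair with a neighbour on one side is not a quotient by the centre. -/
theorem std_inj {Γ : Type v} [Group Γ] {V A B V' A' B' : Subgroup Γ}
    (h : IsStandardUnitaryPair V A B F 2) (h' : IsStandardUnitaryPair V' A' B' F 2)
    (hside : (A' = B ∧ ∀ x ∈ A, ∀ y ∈ B', x * y = y * x) ∨
      (B' = A ∧ ∀ x ∈ A', ∀ y ∈ B, x * y = y * x)) :
    ∃ φ : SU 3 F 2 →* Γ, Std V A B φ := by
  obtain ⟨φ, hr, ha, hb, hk, hcase⟩ := std_hom hF h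
  obtain ⟨φ', -, ha', hb', hk', -⟩ := std_hom hF h'
  rcases hcase with hi | hc
  · exact ⟨φ, hi, hr, ha, hb⟩
  exfalso
  obtain ⟨w, a, b, G⟩ := exists_gens hF
  have w1 := G.w_ne_one hF
  have w3 := G.cube_w hF
  have hz : IsDg (a * b ^ 2) fun _ => w := (G.dga.mul hF (G.dgb.pow hF 2)).trans
    (congrArg diagonal (funext fun i => by
      fin_cases i <;> simp
      · linear_combination w * w3
      · linear_combination w * w3))
  have hab : φ a = φ b := by
    have h1 : φ (a * b ^ 2) = 1 :=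
      hc (Subgroup.mem_center_iff.2 fun x => ((hz.commute_of_const hF x).eq).symm)
    rw [map_mul] at h1
    rw [eq_inv_of_mul_eq_one_left h1, ← map_inv]
    congr 1
    exact inv_eq_of_mul_eq_one_right (by rw [← pow_succ, G.dgb.pow_three hF])
  have haA : φ a ∈ A := ha ▸ Subgroup.mem_map_of_mem φ (fun i hi => by
    rw [G.dga.mulVec hF]; fin_cases i <;> simp at hi ⊢)
  have hbB : φ b ∈ B := hb ▸ Subgroup.mem_map_of_mem φ (fun i hi => by
    rw [G.dgb.mulVec hF]; fin_cases i <;> simp at hi ⊢)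
  have hbne : φ b ≠ 1 := fun e => by
    have h1 := (Subgroup.mem_center_iff.1 (hk e)) (s₀ hF)
    have h2 : suMat (s₀ hF * b) *ᵥ δ 0 = suMat (b * s₀ hF) *ᵥ δ 0 := by rw [h1]
    rw [suMat_mulVec_mul, suMat_mulVec_mul, G.dgb.mulVec hF, mulVec_smul, pm_single hF,
      Equiv.swap_apply_left, G.dgb.mulVec hF] at h2
    have h3 := congrFun h2 1
    simp [δ] at h3
    exact w1 h3.symm
  have hb3 : φ b ^ 3 = 1 := by rw [← map_pow, G.dgb.pow_three hF, map_one]
  have lift : ∀ (i j : Fin 3), φ b ∈ (Win F 2 ({i, j} : Finset (Fin 3))).map φ' → i ≠ j →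
      ∀ r, r ∉ ({i, j} : Finset (Fin 3)) → (∀ x, x = i ∨ x = j ∨ x = r) →
      ∃ (y : SU 3 F 2) (c : Fin 3 → F), φ' y = φ b ∧ IsDg y c ∧ c r = 1 ∧ y ≠ 1 := by
    intro i j hmem hij r hr hcov
    obtain ⟨y, hy, hye⟩ := hmem
    have hy6 : (y ^ 2) ^ 3 = 1 := pair_six hF hij hy
    have hy4 : (y ^ 4) ^ 3 = 1 := by
      rw [show (y ^ 4) ^ 3 = ((y ^ 2) ^ 3) ^ 2 by simp only [← pow_mul], hy6, one_pow]
    obtain ⟨c, hc', hcr⟩ := isDg_of_pair hF hij hr hcov (pow_mem hy 4) hy4
    have he : φ' (y ^ 4) = φ b := by rw [map_pow, hye, pow_succ, hb3, one_mul]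
    exact ⟨y ^ 4, c, he, hc', hcr, fun h => hbne (by rw [← he, h, map_one])⟩
  have fin : ∀ (y : SU 3 F 2) (c : Fin 3 → F) (i j r : Fin 3), φ' y = φ b → IsDg y c → c r = 1 →
      y ≠ 1 → i ≠ j → i = r ∨ j = r → Commute (φ' y) (φ' (pm hF (Equiv.swap i j))) → False := by
    intro y c i j r hy hc' hcr hy1 hij hrij hcm
    obtain ⟨k, hk⟩ : ∃ k, c k ≠ 1 := by
      by_contra h
      push Not at h
      exact hy1 (IsDg.unique hF hc' ((isDg_one hF).trans (congrArg diagonal
        (funext fun k => (h k).symm))))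
    have hci := dg3_injective hF hc' ⟨r, k, by rw [hcr]; exact Ne.symm hk⟩
    set s := pm hF (Equiv.swap i j)
    have hmem : y * s * y⁻¹ * s⁻¹ ∈ φ'.ker := by
      rw [MonoidHom.mem_ker, map_mul, map_mul, map_mul, map_inv, map_inv, hcm.eq]
      group
    have hss : s * y * s⁻¹ = pm hF (Equiv.swap i j) * y * (pm hF (Equiv.swap i j))⁻¹ := rfl
    have hd2 := hc'.conj_pm hF (Equiv.swap i j)
    rw [← hss] at hd2
    have hy1' : y * (s * y * s⁻¹)⁻¹ ∈ Subgroup.center _ := by
      rw [show y * (s * y * s⁻¹)⁻¹ = y * s * y⁻¹ * s⁻¹ by group]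
      exact hk' hmem
    obtain ⟨e, he⟩ := (mem_center_iff_scalar hF (by norm_num)).1 hy1'
    have hdiv : IsDg (y * (s * y * s⁻¹)⁻¹) fun _ => e := by
      show suMat _ = _
      rw [he]; ext a b
      simp [Matrix.one_apply, diagonal_apply]
    have hprod := hdiv.mul hF hd2
    rw [inv_mul_cancel_right] at hprod
    have heq := hc'.inj hF hprod
    obtain ⟨t, hti, htj⟩ : ∃ t : Fin 3, t ≠ i ∧ t ≠ j := third_point hF i j
    have et := congrFun heq t
    simp only [Pi.mul_apply, Function.comp_apply, Equiv.symm_swap,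
      Equiv.swap_apply_of_ne_of_ne hti htj] at et
    have hct : c t ≠ 0 := fun h => col_ne_zero hF y t (by rw [hc'.mulVec hF, h, zero_smul])
    have e1 : e = 1 := mul_right_cancel₀ hct (et.symm.trans (one_mul _).symm)
    have ei := congrFun heq i
    simp only [Pi.mul_apply, Function.comp_apply, Equiv.symm_swap, Equiv.swap_apply_left, e1,
      one_mul] at ei
    exact hij (hci ei)
  rcases hside with ⟨hA, hcomm⟩ | ⟨hB, hcomm⟩
  · obtain ⟨y, c, hy, hc', hcr, hy1⟩ := lift 0 1 (by rw [ha', hA]; exact hbB) (by decide) 2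
      (by decide) (by decide)
    refine fin y c 1 2 2 hy hc' hcr hy1 (by decide) (Or.inr rfl) ?_
    rw [hy]
    exact hcomm _ (hab ▸ haA) _ (hb' ▸ Subgroup.mem_map_of_mem φ' (swap_mem hF 1 2))
  · obtain ⟨y, c, hy, hc', hcr, hy1⟩ := lift 1 2 (by rw [hb', hB, ← hab]; exact haA) (by decide) 0
      (by decide) (by decide)
    refine fin y c 0 1 0 hy hc' hcr hy1 (by decide) (Or.inl rfl) ?_
    rw [hy]
    exact (hcomm _ (ha' ▸ Subgroup.mem_map_of_mem φ' (swap_mem hF 0 1)) _ hbB).symm

end H42.Phan
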