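import Cfsg.Agent.H42.Phan.TwoAut

/-!
Normalising two overlapping standard pairs inside a copy of `SU_4(2)`.
-/

set_option autoImplicit false
set_option linter.unusedSectionVars false

namespace H42.Phan

open Matrix Cfsg H50 H69.SUW H41.Phan

universe u v

variable {F : Type u} [Field F] [Fintype F] {l m n : ℕ} (hF : Fintype.card F = 2 ^ 2)
include hF

theorem map_win (f : Fin m ↪ Fin n) (S : Finset (Fin m)) :
    (Win F 2 S).map (emb hF f) = Win F 2 (S.map f) := by
  refine le_antisymm ?_ fun g hg => ?_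
  · rintro _ ⟨x, hx, rfl⟩
    exact (emb_mem_iff hF f x S).2 hx
  · obtain ⟨x, rfl⟩ := emb_surj hF f (win_mono (Finset.map_subset_map.2 (Finset.subset_univ S)) hg)
    exact ⟨x, (emb_mem_iff hF f x S).1 hg, rfl⟩

theorem emb_range (f : Fin m ↪ Fin n) : (emb (q := 2) hF f).range = Win F 2 (Finset.univ.map f) := by
  rw [← map_win hF, MonoidHom.range_eq_map]
  congr 1
  exact le_antisymm (fun g _ => win_univ g) le_top

/-- Three coordinates on the left of four. -/
def embL : Fin 3 ↪ Fin 4 := ⟨Fin.castSucc, Fin.castSucc_injective 3⟩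

/-- Three coordinates on the right of four. -/
def embR : Fin 3 ↪ Fin 4 := ⟨Fin.succ, Fin.succ_injective 3⟩

theorem img_L : (Finset.univ : Finset (Fin 3)).map embL = Finset.univ.erase 3 ∧
    ({0, 1} : Finset (Fin 3)).map embL = {0, 1} ∧ ({1, 2} : Finset (Fin 3)).map embL = {1, 2} := by
  decide

theorem img_R : (Finset.univ : Finset (Fin 3)).map embR = Finset.univ.erase 0 ∧
    ({0, 1} : Finset (Fin 3)).map embR = {1, 2} ∧ ({1, 2} : Finset (Fin 3)).map embR = {2, 3} := by
  decide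

theorem mem_win_erase {i : Fin n} {g : SU n F 2} :
    g ∈ Win F 2 (Finset.univ.erase i) ↔ suMat g *ᵥ δ i = δ i :=
  ⟨fun h => h i (by simp), fun h j hj => by
    rw [show j = i by simpa using hj]; exact h⟩

theorem four_fix : ∀ i : Fin 4, ∃ σ : Equiv.Perm (Fin 4), σ i = 3 := fun i =>
  ⟨Equiv.swap i 3, Equiv.swap_apply_left i 3⟩

theorem cover_four : ∀ i j k : Fin 4, i ≠ j → i ≠ k → j ≠ k →
    ∃ l, l ≠ i ∧ ∀ x, x ≠ l → x = i ∨ x = j ∨ x = k := by decide

theorem other_three : ∀ i : Fin 4, ∃ a b c : Fin 4, a ≠ i ∧ b ≠ i ∧ c ≠ i ∧ a ≠ b ∧ a ≠ c ∧ b ≠ c ∧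
    (Finset.univ : Finset (Fin 4)) = {i, a, b, c} := by decide

theorem cubic_diag {g x : SU n F 2} {c : Fin n → F} (h : IsDg g c) (hx : Commute g x)
    (hx3 : x ^ 3 = 1) (hc : ∀ i j k, i ≠ j → i ≠ k → j ≠ k → c i = c j → c i ≠ c k) :
    ∃ d, IsDg x d := by
  classical
  have hcol : ∀ p, ∃ d : F, suMat x *ᵥ δ p = d • δ p := fun p => by
    have hsupp : ∀ r, c r = c p → ∀ j, c j ≠ c p → (suMat x *ᵥ δ r) j = 0 := fun r hr j hj => by
      rw [H41.Phan.single_mulVec]
      exact apply_of_commute hF h hx (hr ▸ hj)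
    by_cases hq : ∃ q, q ≠ p ∧ c q = c p
    · obtain ⟨q, hqp, hcq⟩ := hq
      have hs : ∀ r, c r = c p → Supp {p, q} (suMat x *ᵥ δ r) := fun r hr j hj => by
        simp only [Finset.mem_insert, Finset.mem_singleton, not_or] at hj
        exact hsupp r hr j (fun e => hc p q j hqp.symm (Ne.symm hj.1) (Ne.symm hj.2) hcq.symm e.symm)
      rcases unit_pair hF (hs p rfl) (col_unit hF x p) with ⟨e, -⟩ | ⟨e, h0⟩
      · exact ⟨_, e⟩
      exfalso
      set d := (suMat x *ᵥ δ p) q
      rcases unit_pair hF (hs q hcq) (col_unit hF x q) with ⟨e', h0'⟩ | ⟨e', h0'⟩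
      · set d' := (suMat x *ᵥ δ q) p
        have h1 : suMat (x ^ 3) *ᵥ δ p = δ p := by rw [hx3, suMat_one, one_mulVec]
        rw [pow_succ, pow_two, suMat_mulVec_mul, suMat_mulVec_mul, e, mulVec_smul, e', smul_smul,
          mulVec_smul, e, smul_smul] at h1
        have h2 := congrFun h1 p
        simp [δ, hqp.symm] at h2
      · set d' := (suMat x *ᵥ δ q) q
        have h1 := suMat_h x (δ p) (δ q)
        rw [e, e', h_smul_left, h_smul_right hF, h_single_single hF, if_pos rfl, mul_one,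
          h_single_single hF, if_neg hqp.symm] at h1
        exact mul_ne_zero h0 (pow_ne_zero _ h0') h1
    · push Not at hq
      exact ⟨_, single_of_supp hF fun j hj => hsupp p rfl j (hq j (by simpa using hj))⟩
  choose d hd using hcol
  exact ⟨d, isDg_of_mulVec hF hd⟩

/-- A copy of `SU_3` in `SU_4` is a conjugate of the standard one by an automorphism. -/
theorem extend (η : SU 3 F 2 →* SU 4 F 2) (hη : Function.Injective η) :
    ∃ β : SU 4 F 2 ≃* SU 4 F 2, (∀ x, η x = β (emb hF embL x)) ∧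
      ∃ v, hermForm 4 F 2 v v = 1 ∧ ∀ h, h ∈ η.range ↔ suMat h *ᵥ v = v := by
  obtain ⟨w, a, b, G⟩ := exists_gens hF
  have w1 := G.w_ne_one hF
  have w3 := G.cube_w hF
  obtain ⟨z, hz⟩ := exists_isDg hF (c := fun _ : Fin 3 => w) (fun _ => w3)
    (by rw [Fin.prod_univ_three, ← pow_two, ← pow_succ, w3])
  have hzne : η z ≠ 1 := fun h => by
    have h' := hη (h.trans η.map_one.symm)
    exact w1 (congrFun (hz.inj hF (c' := 1) (h' ▸ isDg_one hF)) 0)
  obtain ⟨g₁, c, hc⟩ := diagonalise hF (z := η z) (by rw [← map_pow, hz.pow_three hF, map_one])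
  let η₁ : SU 3 F 2 →* SU 4 F 2 := (MulAut.conj g₁⁻¹).toMonoidHom.comp η
  have hη₁ : Function.Injective η₁ := (MulAut.conj g₁⁻¹).injective.comp hη
  have hz₁ : IsDg (η₁ z) c := by
    show IsDg (g₁⁻¹ * η z * g₁⁻¹⁻¹) c
    rw [inv_inv]
    exact hc
  have hcen : ∀ x, Commute (η₁ z) (η₁ x) := fun x => (hz.commute_of_const hF x).map η₁
  obtain ⟨i, j, k, hij, hik, hjk, hcij, hcik⟩ :
      ∃ i j k, i ≠ j ∧ i ≠ k ∧ j ≠ k ∧ c i = c j ∧ c i = c k := by
    by_contra hno
    push Not at hno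
    let σ : Equiv.Perm (Fin 3) := Equiv.swap 0 1 * Equiv.swap 1 2
    have hσ : σ * σ * σ = 1 := by decide
    have hp3 : pm hF σ ^ 3 = 1 := by
      rw [pow_succ, pow_two, ← pm_mul hF, ← pm_mul hF, hσ, pm_one hF]
    obtain ⟨d, hd⟩ := cubic_diag hF hz₁ (hcen a)
      (by rw [← map_pow, G.dga.pow_three hF, map_one]) hno
    obtain ⟨d', hd'⟩ := cubic_diag hF hz₁ (hcen (pm hF σ)) (by rw [← map_pow, hp3, map_one]) hno
    have e : a * pm hF σ = pm hF σ * a :=
      hη₁ (by rw [map_mul, map_mul, (hd.commute hF hd').eq])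
    have e1 : suMat (a * pm hF σ) *ᵥ δ 0 = suMat (pm hF σ * a) *ᵥ δ 0 := by rw [e]
    rw [suMat_mulVec_mul, suMat_mulVec_mul, pm_single hF, show σ 0 = 1 by decide, G.dga.mulVec hF,
      G.dga.mulVec hF, mulVec_smul, pm_single hF, show σ 0 = 1 by decide] at e1
    have e2 := congrFun e1 1
    simp [δ] at e2
    have hw0 : w ≠ 0 := fun h => by rw [h] at w3; simp at w3
    exact w1 (mul_left_cancel₀ hw0 (by first | linear_combination e2 | linear_combination -e2))
  obtain ⟨l, hli, hl⟩ := cover_four hF i j k hij hik hjk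
  have hsame : ∀ x, x ≠ l → c x = c i := fun x hx => by
    rcases hl x hx with rfl | rfl | rfl
    · rfl
    · exact hcij.symm
    · exact hcik.symm
  have hcl : c l = 1 := by
    obtain ⟨p, q, r, hp, hq, hr, hpq, hpr, hqr, hu⟩ := other_three hF l
    have h := hz₁.prod hF
    rw [hu, Finset.prod_insert (by simp [hp.symm, hq.symm, hr.symm]),
      Finset.prod_insert (by simp [hpq, hpr]), Finset.prod_pair hqr, hsame p hp, hsame q hq,
      hsame r hr] at h
    linear_combination h - c l * hz₁.cube hF i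
  have hci : c i ≠ 1 := fun h => by
    refine hzne ?_
    have h1 : η₁ z = 1 := IsDg.unique hF hz₁ ((isDg_one hF).trans (congrArg diagonal
      (funext fun x => by
        by_cases hx : x = l
        · rw [hx, hcl]; rfl
        · rw [hsame x hx, h]; rfl)))
    exact (MulAut.conj g₁⁻¹).injective (h1.trans (map_one _).symm)
  obtain ⟨π, hπ⟩ := four_fix hF l
  let η₂ : SU 3 F 2 →* SU 4 F 2 := (MulAut.conj (pm hF π)).toMonoidHom.comp η₁
  have hη₂ : Function.Injective η₂ := (MulAut.conj (pm hF π)).injective.comp hη₁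
  have hz₂ : IsDg (η₂ z) (c ∘ π.symm) := hz₁.conj_pm hF π
  have hscal : ∀ x, ∃ e : F, suMat (η₂ x) *ᵥ δ 3 = e • δ 3 := fun x => by
    refine ⟨_, single_of_supp hF fun y hy => ?_⟩
    rw [H41.Phan.single_mulVec]
    refine apply_of_commute hF hz₂ ((hz.commute_of_const hF x).map η₂) ?_
    have hy' : π.symm y ≠ l := fun e => by
      rw [← e, Equiv.apply_symm_apply] at hπ
      simp [hπ] at hy
    show c (π.symm y) ≠ c (π.symm 3)
    rw [hsame _ hy', ← hπ, Equiv.symm_apply_apply, hcl]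
    exact hci
  choose χ hχ using hscal
  have hχ0 : ∀ x, χ x ≠ 0 := fun x h => col_ne_zero hF (η₂ x) 3 (by rw [hχ, h, zero_smul])
  have hχ1 : χ 1 = 1 := by
    have h := congrFun (hχ 1) 3
    rw [map_one, suMat_one, one_mulVec] at h
    simpa [δ] using h.symm
  let χu : SU 3 F 2 →* Fˣ :=
    { toFun := fun x => Units.mk0 (χ x) (hχ0 x)
      map_one' := Units.ext hχ1
      map_mul' := fun x y => Units.ext (by
        have h := congrFun (hχ (x * y)) 3
        rw [map_mul, suMat_mulVec_mul, hχ y, mulVec_smul, hχ x, smul_smul] at h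
        show χ (x * y) = χ x * χ y
        simp [δ] at h
        rw [← h, mul_comm]) }
  have hu3 : ∀ x, χu x ^ 3 = 1 := fun x => Units.ext (by
    rw [Units.val_pow_eq_pow_val, Units.val_one]
    exact H42.Phan.cube hF (hχ0 x))
  have hinv : ∀ x, x * x = 1 → χu x = 1 := fun x hx => by
    have h1 := hu3 x
    rw [pow_succ, pow_two, ← map_mul, hx, map_one, one_mul] at h1
    exact h1
  have hgen : ∀ x y, y * y = 1 → y * x * y = x * x → x ^ 3 = 1 → χu x = 1 := fun x y hy hyx hx => by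
    have h1 : y * x * (y * x) = 1 := by
      rw [← mul_assoc, hyx, mul_assoc, ← pow_two, ← pow_succ', hx]
    have h2 := hinv _ h1
    rwa [map_mul, hinv y hy, one_mul] at h2
  have hchi : ∀ x, χ x = 1 := fun x => congrArg Units.val (G.kill hF χu
    (hgen a _ (pm_sq hF _ _) (G.conj_s hF) (G.dga.pow_three hF))
    (hgen b _ (pm_sq hF _ _) (G.conj_t hF) (G.dgb.pow_three hF))
    (hinv _ (pm_sq hF _ _)) (hinv _ (pm_sq hF _ _)) hu3 x)
  have hin : ∀ x, η₂ x ∈ Win F 2 ((Finset.univ : Finset (Fin 3)).map embL) := fun x => by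
    rw [(img_L hF).1, mem_win_erase hF, hχ, hchi, one_smul]
  let α : SU 3 F 2 →* SU 3 F 2 :=
    (embIso hF embL).symm.toMonoidHom.comp (η₂.codRestrict _ hin)
  have hα : Function.Injective α := (embIso hF embL).symm.injective.comp
    (fun x y h => hη₂ (congrArg Subtype.val h))
  have hαe : ∀ x, emb hF embL (α x) = η₂ x := fun x => by
    rw [← embIso_apply hF]
    exact congrArg Subtype.val ((embIso hF embL).apply_symm_apply _)
  obtain ⟨g₀, d, hd, σ, hα'⟩ := aut3 hF α hα
  set d' : Fin 4 → F := ![d 0, d 1, d 2, 1] with hd'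
  have hd1 : ∀ i, d' i ^ (2 + 1) = 1 := fun i => by
    fin_cases i
    · exact hd 0
    · exact hd 1
    · exact hd 2
    · exact one_pow _
  set g : SU 4 F 2 := g₁ * (pm hF π)⁻¹ * emb hF embL g₀ with hg
  let β : SU 4 F 2 ≃* SU 4 F 2 :=
    (MulEquiv.ofBijective _ (twist_bijective hF d' hd1 σ)).trans (MulAut.conj g)
  have hβ : ∀ x, η x = β (emb hF embL x) := fun x => by
    show η x = g * twist hF d' hd1 σ (emb hF embL x) * g⁻¹
    have hdd : d' ∘ embL = d := funext fun y => by fin_cases y <;> rfl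
    rw [twist_emb hF]
    have e : η₂ x = emb hF embL g₀ * emb hF embL (twist hF (d' ∘ embL) (fun a => hd1 (embL a)) σ x) *
        (emb hF embL g₀)⁻¹ := by
      rw [← map_inv, ← map_mul, ← map_mul, ← hαe, hα']
      simp only [hdd]
    calc η x = g₁ * (pm hF π)⁻¹ * η₂ x * (g₁ * (pm hF π)⁻¹)⁻¹ := by
          show η x = g₁ * (pm hF π)⁻¹ * (pm hF π * (g₁⁻¹ * η x * g₁⁻¹⁻¹) * (pm hF π)⁻¹) *
            (g₁ * (pm hF π)⁻¹)⁻¹
          group
      _ = _ := by rw [e, hg]; group
  refine ⟨β, hβ, suMat g *ᵥ δ 3, ?_, fun h => ?_⟩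
  · rw [suMat_h]; exact (h_single_single hF 3 3).trans (if_pos rfl)
  · have hiff : h ∈ η.range ↔ g⁻¹ * h * g ∈ Win F 2 ((Finset.univ : Finset (Fin 3)).map embL) := by
      constructor
      · rintro ⟨x, rfl⟩
        rw [hβ]
        show g⁻¹ * (g * twist hF d' hd1 σ (emb hF embL x) * g⁻¹) * g ∈ _
        rw [show ∀ y, g⁻¹ * (g * y * g⁻¹) * g = y from fun y => by group, twist_mem_iff hF,
          ← emb_range hF]
        exact ⟨x, rfl⟩
      · intro hh
        obtain ⟨y, hy⟩ := (twist_bijective hF d' hd1 σ).2 (g⁻¹ * h * g)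
        rw [← hy, twist_mem_iff hF, ← emb_range hF] at hh
        obtain ⟨x, rfl⟩ := hh
        refine ⟨x, ?_⟩
        rw [hβ]
        show g * twist hF d' hd1 σ (emb hF embL x) * g⁻¹ = h
        rw [hy]
        group
    rw [hiff, (img_L hF).1, mem_win_erase hF, suMat_mulVec_mul, suMat_mulVec_mul]
    constructor
    · intro e
      have := congrArg (suMat g *ᵥ ·) e
      simpa only [suMat_mulVec_inv] using this
    · intro e
      rw [e, suMat_inv_mulVec]

/-- A standard pair, normalised. -/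
structure Std {Γ : Type v} [Group Γ] (V U₀ U₁ : Subgroup Γ) (ψ : SU 3 F 2 →* Γ) : Prop where
  inj : Function.Injective ψ
  range_eq : ψ.range = V
  left : (Win F 2 ({0, 1} : Finset (Fin 3))).map ψ = U₀
  right : (Win F 2 ({1, 2} : Finset (Fin 3))).map ψ = U₁

theorem lift_hom {A B Γ : Type*} [Group A] [Group B] [Group Γ] (g : B →* Γ)
    (hg : Function.Injective g) (ψ : A →* Γ) (h : ψ.range ≤ g.range) :
    ∃ η : A →* B, ∀ x, g (η x) = ψ x := by
  choose η hη using fun x => h ⟨x, rfl⟩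
  exact ⟨MonoidHom.mk' η fun x y => hg (by rw [map_mul, hη, hη, hη, map_mul]), hη⟩

/-- The step along the chain. -/
theorem next {Γ : Type v} [Group Γ] {V₀ V₁ U₀ U₁ U₂ : Subgroup Γ} {ψ φ : SU 3 F 2 →* Γ}
    (h₀ : Std V₀ U₀ U₁ ψ) (h₁ : Std V₁ U₁ U₂ φ) (hc : ∀ x ∈ U₀, ∀ y ∈ U₂, x * y = y * x)
    (g : SU 4 F 2 →* Γ) (hg : Function.Injective g) (hgr : g.range = V₀ ⊔ V₁) :
    ∃ Q : SU 4 F 2 →* Γ, Q.comp (emb hF embL) = ψ ∧ Std V₁ U₁ U₂ (Q.comp (emb hF embR)) := by
  classical
  obtain ⟨η, hη⟩ := lift_hom hF g hg ψ (by rw [h₀.range_eq, hgr]; exact le_sup_left)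
  obtain ⟨β, hβ, -⟩ := extend hF η fun x y h => h₀.inj (by rw [← hη, ← hη, h])
  set Q : SU 4 F 2 →* Γ := g.comp β.toMonoidHom with hQ
  have hQi : Function.Injective Q := hg.comp β.injective
  have hQr : Q.range = V₀ ⊔ V₁ := by
    rw [hQ, MonoidHom.range_comp, MonoidHom.range_eq_top.2 β.surjective, ← MonoidHom.range_eq_map,
      hgr]
  have hQL : Q.comp (emb hF embL) = ψ := MonoidHom.ext fun x => by
    show g (β (emb hF embL x)) = ψ x
    rw [← hβ, hη]
  clear_value Q
  have hU₀ : (Win F 2 ({0, 1} : Finset (Fin 4))).map Q = U₀ := by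
    rw [← (img_L hF).2.1, ← map_win hF, Subgroup.map_map, hQL, h₀.left]
  have hU₁ : (Win F 2 ({1, 2} : Finset (Fin 4))).map Q = U₁ := by
    rw [← (img_L hF).2.2, ← map_win hF, Subgroup.map_map, hQL, h₀.right]
  obtain ⟨η₂, hη₂⟩ := lift_hom hF Q hQi φ (by rw [h₁.range_eq, hQr]; exact le_sup_right)
  have hη₂c : Q.comp η₂ = φ := MonoidHom.ext hη₂
  have hη₂i : Function.Injective η₂ := fun x y h => h₁.inj (by rw [← hη₂, ← hη₂, h])
  obtain ⟨-, -, v, hv, hvr⟩ := extend hF η₂ hη₂i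
  have hrange : η₂.range.map Q = V₁ := by
    rw [← MonoidHom.range_comp, hη₂c, h₁.range_eq]
  have hmid : Win F 2 ({1, 2} : Finset (Fin 4)) ≤ η₂.range := by
    rw [← Subgroup.map_le_map_iff_of_injective hQi, hU₁, hrange, ← h₁.range_eq, ← h₁.left]
    exact Subgroup.map_le_range _ _
  obtain ⟨w, hw3, hw1, hw21, hw⟩ := exists_omega hF
  have hp : pm hF (Equiv.swap (1 : Fin 4) 2) ∈ Win F 2 ({1, 2} : Finset (Fin 4)) := fun i hi => by
    simp only [Finset.mem_insert, Finset.mem_singleton, not_or] at hi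
    rw [pm_single hF, Equiv.swap_apply_of_ne_of_ne hi.1 hi.2]
  obtain ⟨d, hd⟩ := exists_isDg hF (c := ![1, w, w ^ 2, 1])
    (fun i => by fin_cases i <;> simp [hw3, pow_right_comm w 2 3])
    (by simp [Fin.prod_univ_four, ← pow_succ', hw3])
  have hd' : d ∈ Win F 2 ({1, 2} : Finset (Fin 4)) := fun i hi => by
    rw [hd.mulVec hF]
    fin_cases i <;> simp at hi ⊢
  have hv12 : v 1 = 0 ∧ v 2 = 0 := by
    have e1 := congrFun ((hvr _).1 (hmid hp)) 1
    rw [pm_apply hF, Equiv.symm_swap, Equiv.swap_apply_left] at e1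
    have e2 := congrFun ((hvr _).1 (hmid hd')) 1
    rw [show suMat d = diagonal _ from hd, mulVec_diagonal] at e2
    have e3 : v 1 = 0 := by
      by_contra h
      exact hw1 (mul_right_cancel₀ h (e2.trans (one_mul _).symm))
    exact ⟨e3, e1.trans e3⟩
  have hstab : ∀ (i : Fin 4) (c : F), c ≠ 0 → v = c • δ i →
      η₂.range = Win F 2 (Finset.univ.erase i) := fun i c hc0 e => by
    ext h
    rw [hvr, mem_win_erase hF, e, mulVec_smul]
    exact ⟨fun e' => smul_right_injective _ hc0 e', fun e' => by rw [e']⟩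
  have hR : η₂.range = Win F 2 (Finset.univ.erase (0 : Fin 4)) := by
    have hs : Supp {(0 : Fin 4), 3} v := fun i hi => by
      fin_cases i
      · simp at hi
      · exact hv12.1
      · exact hv12.2
      · simp at hi
    rcases unit_pair hF hs hv with ⟨e, h0⟩ | ⟨e, h0⟩
    · exact hstab 0 _ h0 e
    · exfalso
      have e3 := hstab 3 _ h0 e
      have hV : V₁ = V₀ := by
        rw [← hrange, e3, ← (img_L hF).1, ← emb_range hF, ← MonoidHom.range_comp, hQL, h₀.range_eq]
      have htop : Win F 2 (Finset.univ.erase (3 : Fin 4)) = ⊤ := by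
        apply Subgroup.map_injective hQi
        rw [← e3, hrange, ← MonoidHom.range_eq_map, hQr, hV, sup_idem]
      have hx : pm hF (Equiv.swap (2 : Fin 4) 3) ∈ Win F 2 (Finset.univ.erase (3 : Fin 4)) := by
        rw [htop]; trivial
      rw [mem_win_erase hF, pm_single hF, Equiv.swap_apply_right] at hx
      simpa [δ] using congrFun hx 2
  refine ⟨Q, hQL, hQi.comp (emb_injective hF _), ?_, ?_, ?_⟩
  · rw [MonoidHom.range_comp, emb_range hF, (img_R hF).1, ← hR, hrange]
  · rw [← Subgroup.map_map, map_win hF, (img_R hF).2.1, hU₁]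
  · rw [← Subgroup.map_map, map_win hF, (img_R hF).2.2, ← h₁.right, ← hη₂c, ← Subgroup.map_map]
    refine (congrArg (Subgroup.map Q) ?_).symm
    obtain ⟨d₀, hd₀⟩ := exists_isDg hF (c := ![w, w ^ 2, 1, 1])
      (fun i => by fin_cases i <;> simp [hw3, pow_right_comm w 2 3])
      (by simp [Fin.prod_univ_four, ← pow_succ', hw3])
    have hd₀' : d₀ ∈ Win F 2 ({0, 1} : Finset (Fin 4)) := fun i hi => by
      rw [hd₀.mulVec hF]
      fin_cases i <;> simp at hi ⊢
    have hp₀ : pm hF (Equiv.swap (0 : Fin 4) 1) ∈ Win F 2 ({0, 1} : Finset (Fin 4)) := fun i hi => by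
      simp only [Finset.mem_insert, Finset.mem_singleton, not_or] at hi
      rw [pm_single hF, Equiv.swap_apply_of_ne_of_ne hi.1 hi.2]
    refine Subgroup.eq_of_le_of_card_ge (K := Win F 2 ({2, 3} : Finset (Fin 4))) ?_ (le_of_eq ?_)
    · rintro _ ⟨x, hx, rfl⟩
      have hcm : ∀ y ∈ Win F 2 ({0, 1} : Finset (Fin 4)), Commute y (η₂ x) := fun y hy => hQi (by
        rw [map_mul, map_mul, hη₂]
        exact hc _ (hU₀ ▸ Subgroup.mem_map_of_mem Q hy) _
          (h₁.right ▸ Subgroup.mem_map_of_mem φ hx))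
      have h0 : suMat (η₂ x) *ᵥ δ 0 = δ 0 := by
        refine (mem_win_erase hF).1 ?_
        rw [← hR]
        exact ⟨x, rfl⟩
      have h1 : suMat (η₂ x) *ᵥ δ 1 = δ 1 := by
        have e : suMat (pm hF (Equiv.swap (0 : Fin 4) 1) * η₂ x) *ᵥ δ 0 =
            suMat (η₂ x * pm hF (Equiv.swap (0 : Fin 4) 1)) *ᵥ δ 0 := by rw [(hcm _ hp₀).eq]
        rw [suMat_mulVec_mul, suMat_mulVec_mul, h0, pm_single hF, Equiv.swap_apply_left] at e
        exact e.symm
      intro i hi
      fin_cases i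
      · exact h0
      · exact h1
      · simp at hi
      · simp at hi
    · rw [← (img_R hF).2.2, ← map_win hF,
        Subgroup.card_map_of_injective (emb_injective hF _), Subgroup.card_map_of_injective hη₂i]

end H42.Phan
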